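import Mathlib

/-!
The number of regular classes is the number of matrix factors of the group algebra.
-/

set_option autoImplicit false
set_option linter.unusedSectionVars false

namespace Cfsg.Agent.Lib.Modular

open Matrix

/-- A map of the group algebra onto a product of matrix algebras with nilpotent kernel. -/
structure Split (k : Type*) [Field k] (G : Type*) [Group G] where
  m : ℕ
  d : Fin m → ℕ
  ne : ∀ i, NeZero (d i)
  π : MonoidAlgebra k G →ₐ[k] ((i : Fin m) → Matrix (Fin (d i)) (Fin (d i)) k)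
  surj : Function.Surjective π
  nil : ∀ a, π a = 0 → IsNilpotent a

variable {k : Type*} [Field k] {G : Type*} [Group G] [Finite G]

theorem exists_split [IsAlgClosed k] : Nonempty (Split k G) := by
  classical
  haveI : FiniteDimensional k (MonoidAlgebra k G) :=
    (inferInstance : Module.Finite k (MonoidAlgebra k G))
  haveI : IsArtinianRing (MonoidAlgebra k G) := IsArtinianRing.of_finite k _
  set J := Ring.jacobson (MonoidAlgebra k G)
  haveI : IsSemisimpleRing (MonoidAlgebra k G ⧸ J) := IsSemiprimaryRing.isSemisimpleRing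
  obtain ⟨m, d, hd, ⟨e⟩⟩ :=
    IsSemisimpleRing.exists_algEquiv_pi_matrix_of_isAlgClosed k (MonoidAlgebra k G ⧸ J)
  refine ⟨⟨m, d, hd, e.toAlgHom.comp (Ideal.Quotient.mkₐ k J),
    e.surjective.comp Ideal.Quotient.mk_surjective, fun a ha => ?_⟩⟩
  have ha' : a ∈ J := by
    have h : e (Ideal.Quotient.mk J a) = 0 := ha
    rwa [map_eq_zero_iff e e.injective, Ideal.Quotient.eq_zero_iff_mem] at h
  obtain ⟨n, hn⟩ := IsSemiprimaryRing.isNilpotent (R := MonoidAlgebra k G)
  exact ⟨n, by
    have := Ideal.pow_mem_pow ha' n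
    rwa [hn] at this⟩

namespace Split

variable (S : Split k G)

/-- The traces in the factors. -/
noncomputable def tr : MonoidAlgebra k G →ₗ[k] (Fin S.m → k) :=
  LinearMap.pi fun i => (Matrix.traceLinearMap (Fin (S.d i)) k k).comp
    ((LinearMap.proj i).comp S.π.toLinearMap)

theorem tr_apply (a : MonoidAlgebra k G) (i : Fin S.m) : S.tr a i = Matrix.trace (S.π a i) := rfl

theorem tr_surjective : Function.Surjective S.tr := by
  classical
  intro f
  obtain ⟨a, ha⟩ := S.surj fun i => Matrix.single (⟨0, Nat.pos_of_ne_zero (S.ne i).out⟩ : Fin (S.d i))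
    ⟨0, Nat.pos_of_ne_zero (S.ne i).out⟩ (f i)
  refine ⟨a, funext fun i => ?_⟩
  rw [tr_apply, ha]
  simp

theorem tr_conj (g h : G) :
    S.tr (MonoidAlgebra.of k G (h * g * h⁻¹)) = S.tr (MonoidAlgebra.of k G g) := by
  funext i
  rw [tr_apply, tr_apply, map_mul, map_mul, map_mul, map_mul, Pi.mul_apply, Pi.mul_apply,
    Matrix.trace_mul_comm, ← mul_assoc, ← Pi.mul_apply, ← map_mul, ← map_mul, inv_mul_cancel,
    map_one, map_one, Pi.one_apply, one_mul]

variable (p : ℕ) [hp : Fact p.Prime]

theorem exists_parts (g : G) : ∃ s u : G, g = s * u ∧ Commute s u ∧ (orderOf s).Coprime p ∧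
    ∃ a : ℕ, u ^ p ^ a = 1 := by
  set a := (orderOf g).factorization p
  set r := orderOf g / p ^ a
  have hn0 : orderOf g ≠ 0 := (orderOf_pos g).ne'
  have hr : p ^ a * r = orderOf g := Nat.ordProj_mul_ordCompl_eq_self _ p
  have hcp : Nat.Coprime r (p ^ a) := ((Nat.coprime_ordCompl hp.out hn0).symm).pow_right a
  obtain ⟨x, y, hxy⟩ : ∃ x y : ℤ, x * (r : ℤ) + y * ((p ^ a : ℕ) : ℤ) = 1 :=
    Int.isCoprime_iff_nat_coprime.2 (by simpa using hcp)
  refine ⟨g ^ (y * ((p ^ a : ℕ) : ℤ)), g ^ (x * (r : ℤ)), ?_, Commute.zpow_zpow_self g _ _, ?_,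
    a, ?_⟩
  · rw [← _root_.zpow_add, add_comm, hxy, _root_.zpow_one]
  · refine Nat.Coprime.coprime_dvd_left ?_ (Nat.coprime_ordCompl hp.out hn0).symm
    apply orderOf_dvd_of_pow_eq_one
    rw [← _root_.zpow_natCast, ← _root_.zpow_mul, mul_assoc, ← Nat.cast_mul, show p ^ a * r = orderOf g from hr,
      mul_comm, _root_.zpow_mul, _root_.zpow_natCast, pow_orderOf_eq_one, _root_.one_zpow]
  · rw [← _root_.zpow_natCast, ← _root_.zpow_mul, mul_assoc, ← Nat.cast_mul, show r * p ^ a = orderOf g by
      rw [mul_comm]; exact hr, mul_comm, _root_.zpow_mul, _root_.zpow_natCast, pow_orderOf_eq_one, _root_.one_zpow]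

variable [CharP k p]

theorem tr_part {s u : G} (hc : Commute s u) {a : ℕ} (hu : u ^ p ^ a = 1) :
    S.tr (MonoidAlgebra.of k G (s * u)) = S.tr (MonoidAlgebra.of k G s) := by
  haveI : CharP (MonoidAlgebra k G) p := charP_of_injective_algebraMap
    (algebraMap k (MonoidAlgebra k G)).injective p
  funext i
  have hN : IsNilpotent (MonoidAlgebra.of k G (s * u) - MonoidAlgebra.of k G s) := by
    refine ⟨p ^ a, ?_⟩
    rw [map_mul, sub_pow_char_pow_of_commute]
    · rw [← map_mul, ← map_pow, ← map_pow, hc.mul_pow, hu, mul_one, sub_self]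
    · exact ((Commute.refl s).map (MonoidAlgebra.of k G)).mul_left (hc.symm.map (MonoidAlgebra.of k G))
  have h := Matrix.isNilpotent_trace_of_isNilpotent
    (hN.map ((Pi.evalAlgHom k (fun i => Matrix (Fin (S.d i)) (Fin (S.d i)) k) i).comp S.π))
  rw [tr_apply, tr_apply]
  simpa [sub_eq_zero] using h.eq_zero

/-- A functional vanishing on commutators of the factors is a combination of traces. -/
theorem exists_of_vanish (Ψ : MonoidAlgebra k G →ₗ[k] k) (h0 : ∀ a, S.π a = 0 → Ψ a = 0)
    (hc : ∀ a b, Ψ (a * b) = Ψ (b * a)) : ∃ c : Fin S.m → k, ∀ a, Ψ a = ∑ i, c i * S.tr a i := by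
  classical
  let lift : ((i : Fin S.m) → Matrix (Fin (S.d i)) (Fin (S.d i)) k) →ₗ[k] MonoidAlgebra k G :=
    Classical.choose (S.π.toLinearMap.exists_rightInverse_of_surjective
      (LinearMap.range_eq_top.2 S.surj))
  have hlift : ∀ x, S.π (lift x) = x := fun x =>
    LinearMap.congr_fun (Classical.choose_spec (S.π.toLinearMap.exists_rightInverse_of_surjective
      (LinearMap.range_eq_top.2 S.surj))) x
  have key : ∀ a, Ψ a = Ψ (lift (S.π a)) := fun a => by
    have := h0 (a - lift (S.π a)) (by rw [map_sub, hlift, sub_self])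
    rwa [map_sub, sub_eq_zero] at this
  let φ := fun i => (Ψ.comp lift).comp
    (LinearMap.single k (fun i => Matrix (Fin (S.d i)) (Fin (S.d i)) k) i)
  have hφc : ∀ i (x y : Matrix (Fin (S.d i)) (Fin (S.d i)) k), φ i (x * y) = φ i (y * x) := by
    intro i x y
    have e : ∀ x y : Matrix (Fin (S.d i)) (Fin (S.d i)) k,
        φ i (x * y) = Ψ (lift (Pi.single i x) * lift (Pi.single i y)) := fun x y => by
      rw [key (lift (Pi.single i x) * lift (Pi.single i y)), map_mul S.π, hlift, hlift,
        ← Pi.single_mul]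
      rfl
    rw [e, e, hc]
  refine ⟨fun i => φ i (Matrix.single ⟨0, Nat.pos_of_ne_zero (S.ne i).out⟩
    ⟨0, Nat.pos_of_ne_zero (S.ne i).out⟩ 1), fun a => ?_⟩
  rw [key a, ← Finset.univ_sum_single (S.π a), map_sum, map_sum]
  refine Finset.sum_congr rfl fun i _ => ?_
  show φ i (S.π a i) = _
  set o : Fin (S.d i) := ⟨0, Nat.pos_of_ne_zero (S.ne i).out⟩
  have hdiag : ∀ r s : Fin (S.d i),
      φ i (Matrix.single r s 1) = if r = s then φ i (Matrix.single o o 1) else 0 := by
    intro r s
    by_cases h : r = s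
    · subst h
      rw [if_pos rfl]
      simpa using hφc i (Matrix.single r o 1) (Matrix.single o r 1)
    · rw [if_neg h]
      have e := hφc i (Matrix.single r o 1) (Matrix.single o s 1)
      rw [Matrix.single_mul_single_same, one_mul, Matrix.single_mul_single_of_ne _ _ _ _ (Ne.symm h)] at e
      rw [e, map_zero]
  conv_lhs => rw [Matrix.matrix_eq_sum_single (S.π a i)]
  rw [map_sum, tr_apply, Matrix.trace, Finset.mul_sum]
  refine Finset.sum_congr rfl fun r _ => ?_
  rw [map_sum, Finset.sum_eq_single r]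
  · rw [show Matrix.single r r (S.π a i r r) = (S.π a i r r) • Matrix.single r r (1 : k) by simp,
      map_smul, hdiag, if_pos rfl, smul_eq_mul, mul_comm, Matrix.diag]
  · intro s _ hs
    rw [show Matrix.single r s (S.π a i r s) = (S.π a i r s) • Matrix.single r s (1 : k) by simp,
      map_smul, hdiag, if_neg (Ne.symm hs), smul_zero]
  · simp

/-- The functional separating the class of a regular element. -/
theorem exists_sep {g₀ : G} (hg₀ : (orderOf g₀).Coprime p) :
    ∃ c : Fin S.m → k, ∀ g : G, (orderOf g).Coprime p →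
      ((∑ i, c i * S.tr (MonoidAlgebra.of k G g) i) ≠ 0 ↔ IsConj g g₀) := by
  classical
  let P : Sylow p ↥(Subgroup.centralizer ({g₀} : Set G)) := default
  set Q : Subgroup G := (P : Subgroup _).map (Subgroup.centralizer ({g₀} : Set G)).subtype
  have hQc : ∀ u ∈ Q, u * g₀ = g₀ * u := by
    rintro _ ⟨u, -, rfl⟩
    exact Subgroup.mem_centralizer_singleton_iff.1 u.2
  have hQp : IsPGroup p Q := P.isPGroup'.map _
  haveI := Fintype.ofFinite G
  let R : G ⧸ Q → G ⧸ Q := Quotient.map' (fun y => y * g₀) fun a b h => by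
    rw [QuotientGroup.leftRel_apply] at h ⊢
    have e : (a * g₀)⁻¹ * (b * g₀) = g₀⁻¹ * ((a⁻¹ * b) * g₀) := by group
    rw [e, hQc _ h, inv_mul_cancel_left]
    exact h
  let Lh : G →* Module.End k (G ⧸ Q → k) :=
    { toFun := fun g => LinearMap.funLeft k k fun x => g⁻¹ • x
      map_one' := by ext f x; simp
      map_mul' := fun a b => by ext f x; simp [mul_smul] }
  let Rl : Module.End k (G ⧸ Q → k) := LinearMap.funLeft k k R
  let L := MonoidAlgebra.lift k (Module.End k (G ⧸ Q → k)) G Lh
  have hRmk : ∀ y : G, R (QuotientGroup.mk y) = QuotientGroup.mk (y * g₀) := fun y => rfl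
  have hcommR : ∀ a, Commute (L a) Rl := by
    intro a
    induction a using MonoidAlgebra.induction_on with
    | of g =>
      refine LinearMap.ext fun f => funext fun x => ?_
      induction x using QuotientGroup.induction_on with
      | _ y =>
      simp only [L, MonoidAlgebra.lift_of, Module.End.mul_apply]
      show f (R (g⁻¹ • QuotientGroup.mk y)) = f (g⁻¹ • R (QuotientGroup.mk y))
      rw [hRmk, MulAction.Quotient.smul_mk, MulAction.Quotient.smul_mk, hRmk, smul_eq_mul,
        smul_eq_mul, mul_assoc]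
    | add a b ha hb => rw [map_add]; exact ha.add_left hb
    | smul r a ha => rw [map_smul]; exact ha.smul_left r
  let Ψ : MonoidAlgebra k G →ₗ[k] k :=
    (LinearMap.trace k (G ⧸ Q → k)).comp ((LinearMap.mulRight k Rl).comp L.toLinearMap)
  have hΨ : ∀ a, Ψ a = LinearMap.trace k (G ⧸ Q → k) (L a * Rl) := fun a => rfl
  obtain ⟨c, hc⟩ := S.exists_of_vanish Ψ
    (fun a ha => by
      rw [hΨ]
      exact (LinearMap.isNilpotent_trace_of_isNilpotent
        ((hcommR a).isNilpotent_mul_right ((S.nil a ha).map L))).eq_zero)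
    (fun a b => by
      rw [hΨ, hΨ, map_mul L, map_mul L, mul_assoc, LinearMap.trace_mul_comm, mul_assoc,
        ← (hcommR a).eq, ← mul_assoc])
  refine ⟨c, fun g hg => ?_⟩
  rw [← hc, hΨ]
  simp only [L, MonoidAlgebra.lift_of]
  rw [LinearMap.trace_eq_matrix_trace k (Pi.basisFun k (G ⧸ Q)), Matrix.trace]
  have hfix : ∀ x : G ⧸ Q, (LinearMap.toMatrix (Pi.basisFun k (G ⧸ Q)) (Pi.basisFun k (G ⧸ Q))
      (Lh g * Rl)).diag x = if R (g⁻¹ • x) = x then 1 else 0 := by
    intro x
    rw [Matrix.diag, LinearMap.toMatrix_apply, Pi.basisFun_repr, Pi.basisFun_apply]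
    show (Pi.single x (1 : k) : G ⧸ Q → k) (R (g⁻¹ • x)) = _
    rw [Pi.single_apply]
  simp only [hfix, Finset.sum_boole]
  have hiff : ∀ y : G, R (g⁻¹ • QuotientGroup.mk y) = QuotientGroup.mk y ↔ y⁻¹ * g * y = g₀ := by
    intro y
    rw [MulAction.Quotient.smul_mk, hRmk, smul_eq_mul, QuotientGroup.eq]
    have e : (g⁻¹ * y * g₀)⁻¹ * y = g₀⁻¹ * (y⁻¹ * g * y) := by group
    rw [e]
    constructor
    · intro h
      set u := g₀⁻¹ * (y⁻¹ * g * y) with hu
      have hz : y⁻¹ * g * y = g₀ * u := (mul_inv_cancel_left _ _).symm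
      have hcu : Commute g₀ u := (show Commute u g₀ from hQc u h).symm
      have ho : (orderOf (y⁻¹ * g * y)).Coprime p := by
        have e2 : y⁻¹ * g * y = MulAut.conj y⁻¹ g := by simp
        rwa [e2, show orderOf (MulAut.conj y⁻¹ g) = orderOf g from
          orderOf_injective (MulAut.conj y⁻¹).toMonoidHom (MulAut.conj y⁻¹).injective g]
      obtain ⟨a, ha⟩ := hQp ⟨u, h⟩
      have hu1 : u ^ p ^ a = 1 := by simpa using congrArg Subtype.val ha
      suffices u = 1 by rw [hz, this, mul_one]
      have hd : orderOf u ∣ orderOf g₀ * orderOf (y⁻¹ * g * y) := by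
        apply orderOf_dvd_of_pow_eq_one
        have hc2 : Commute g₀⁻¹ (y⁻¹ * g * y) := by
          rw [hz]; exact ((Commute.refl g₀).mul_right hcu).inv_left
        rw [hu, hc2.mul_pow, inv_pow, pow_mul, pow_orderOf_eq_one, one_pow, inv_one, one_mul,
          mul_comm, pow_mul, pow_orderOf_eq_one, one_pow]
      have hcop : Nat.Coprime (orderOf g₀ * orderOf (y⁻¹ * g * y)) (p ^ a) :=
        (hg₀.mul_left ho).pow_right a
      exact orderOf_eq_one_iff.1
        (Nat.eq_one_of_dvd_coprimes hcop hd (orderOf_dvd_of_pow_eq_one hu1))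
    · intro h; rw [h, inv_mul_cancel]; exact one_mem _
  constructor
  · intro hne
    obtain ⟨x, hx⟩ : ∃ x : G ⧸ Q, R (g⁻¹ • x) = x := by
      by_contra hcon
      push Not at hcon
      exact hne (by rw [Finset.filter_eq_empty_iff.2 (fun x _ => hcon x)]; simp)
    induction x using QuotientGroup.induction_on with
    | _ y => exact isConj_iff.2 ⟨y⁻¹, by simpa using (hiff y).1 hx⟩
  · intro hconj
    obtain ⟨w, hw⟩ := isConj_iff.1 hconj
    have hw' : w * g * w⁻¹ = g₀ := hw
    let C : Subgroup G := Subgroup.centralizer ({g₀} : Set G)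
    let f : ↥C ⧸ (P : Subgroup ↥C) → G ⧸ Q := Quotient.map' (fun c => w⁻¹ * (c : G)) fun a b h => by
      rw [QuotientGroup.leftRel_apply] at h ⊢
      rw [show (w⁻¹ * (a : G))⁻¹ * (w⁻¹ * (b : G)) = ((a⁻¹ * b : ↥C) : G) by simp [mul_assoc]]
      exact ⟨a⁻¹ * b, h, rfl⟩
    have hf : ∀ c : ↥C, f (QuotientGroup.mk c) = QuotientGroup.mk (w⁻¹ * (c : G)) := fun c => rfl
    have hcard : (Finset.univ.filter fun x : G ⧸ Q => R (g⁻¹ • x) = x).card =
        (P : Subgroup ↥C).index := by
      rw [← Fintype.card_subtype, ← Nat.card_eq_fintype_card, Subgroup.index]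
      have hmem : ∀ x, R (g⁻¹ • f x) = f x := by
        intro x
        induction x using QuotientGroup.induction_on with
        | _ c =>
        rw [hf]
        refine (hiff _).2 ?_
        have h1 : (c : G) * g₀ = g₀ * c := Subgroup.mem_centralizer_singleton_iff.1 c.2
        calc (w⁻¹ * (c : G))⁻¹ * g * (w⁻¹ * (c : G)) = (c : G)⁻¹ * (w * g * w⁻¹) * c := by group
          _ = g₀ := by rw [hw', mul_assoc, ← h1, inv_mul_cancel_left]
      let F : ↥C ⧸ (P : Subgroup ↥C) → {x : G ⧸ Q // R (g⁻¹ • x) = x} := fun x => ⟨f x, hmem x⟩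
      refine (Nat.card_eq_of_bijective F ⟨?_, ?_⟩).symm
      · intro x x' e
        have e' := congrArg Subtype.val e
        induction x using QuotientGroup.induction_on with
        | _ c =>
        induction x' using QuotientGroup.induction_on with
        | _ c' =>
        simp only [F, hf] at e'
        rw [QuotientGroup.eq] at e' ⊢
        obtain ⟨u, hu, hu'⟩ := e'
        have : u = c⁻¹ * c' := Subtype.ext (by simpa [mul_assoc] using hu')
        rw [← this]; exact hu
      · rintro ⟨x, hx⟩
        induction x using QuotientGroup.induction_on with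
        | _ y =>
        have h1 := (hiff y).1 hx
        have hm : w * y ∈ C := by
          rw [Subgroup.mem_centralizer_singleton_iff]
          calc w * y * g₀ = w * y * (y⁻¹ * g * y) := by rw [h1]
            _ = (w * g * w⁻¹) * (w * y) := by group
            _ = g₀ * (w * y) := by rw [hw']
        exact ⟨QuotientGroup.mk ⟨w * y, hm⟩, Subtype.ext (by show f (QuotientGroup.mk ⟨w * y, hm⟩) = QuotientGroup.mk y; rw [hf]; simp)⟩
    rw [hcard, Ne, CharP.cast_eq_zero_iff k p]
    exact P.not_dvd_index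

theorem card_regular :
    Nat.card {c : ConjClasses G // ∃ g : G, ConjClasses.mk g = c ∧ (orderOf g).Coprime p} = S.m := by
  classical
  set C := {c : ConjClasses G // ∃ g : G, ConjClasses.mk g = c ∧ (orderOf g).Coprime p}
  haveI : Fintype C := Fintype.ofFinite C
  let r : C → G := fun c => c.2.choose
  let v : C → Fin S.m → k := fun c => S.tr (MonoidAlgebra.of k G (r c))
  have hr : ∀ c : C, ConjClasses.mk (r c) = c.1 ∧ (orderOf (r c)).Coprime p := fun c =>
    c.2.choose_spec
  have hli : LinearIndependent k v := by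
    rw [Fintype.linearIndependent_iff]
    intro a ha c₀
    obtain ⟨co, hco⟩ := S.exists_sep p (hr c₀).2
    have h : ∑ c, a c * (∑ i, co i * v c i) = 0 := by
      simp only [Finset.mul_sum]
      rw [Finset.sum_comm]
      refine Finset.sum_eq_zero fun i _ => ?_
      have := congrFun ha i
      simp only [Finset.sum_apply, Pi.smul_apply, smul_eq_mul, Pi.zero_apply] at this
      calc ∑ c, a c * (co i * v c i) = co i * ∑ c, a c * v c i := by
            rw [Finset.mul_sum]; exact Finset.sum_congr rfl fun c _ => by ring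
        _ = 0 := by rw [this, mul_zero]
    rw [Finset.sum_eq_single c₀] at h
    · exact (mul_eq_zero.1 h).resolve_right ((hco _ (hr c₀).2).2 (IsConj.refl _))
    · intro c _ hne
      have : (∑ i, co i * v c i) = 0 := by
        by_contra hne'
        have h1 := ConjClasses.mk_eq_mk_iff_isConj.2 ((hco _ (hr c).2).1 hne')
        rw [(hr c).1, (hr c₀).1] at h1
        exact hne (Subtype.ext h1)
      rw [this, mul_zero]
    · simp
  have hsp : (⊤ : Submodule k (Fin S.m → k)) ≤ Submodule.span k (Set.range v) := by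
    rintro x -
    obtain ⟨a, rfl⟩ := S.tr_surjective x
    induction a using MonoidAlgebra.induction_on with
    | of g =>
      obtain ⟨s, u, rfl, hc, hs, n, hu⟩ := exists_parts p g
      rw [S.tr_part p hc hu]
      set c : C := ⟨ConjClasses.mk s, s, rfl, hs⟩
      obtain ⟨y, hy⟩ := isConj_iff.1 (ConjClasses.mk_eq_mk_iff_isConj.1 (hr c).1)
      rw [← hy, S.tr_conj]
      exact Submodule.subset_span ⟨c, rfl⟩
    | add a b ha hb => rw [map_add]; exact Submodule.add_mem _ ha hb
    | smul t a ha => rw [map_smul]; exact Submodule.smul_mem _ t ha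
  rw [Nat.card_eq_fintype_card, ← Module.finrank_eq_card_basis (Module.Basis.mk hli hsp),
    Module.finrank_fin_fun]

end Split

end Cfsg.Agent.Lib.Modular
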