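import Cfsg.Agent.Lib.Modular.SplitBN
import Cfsg.Agent.Lib.Modular.RegularCount

/-!
The simple modules of a split BN datum in characteristic `p` correspond to the weights.
-/

set_option autoImplicit false
set_option linter.unusedSectionVars false

namespace Cfsg.Agent.Lib.Modular

open Matrix
open scoped Classical

variable {G : Type*} [Group G] [Finite G] {p q l : ℕ}

/-- A `p`-group acting additively on a vector space over the prime field fixes a nonzero vector. -/
theorem exists_fixed {U : Type*} [Group U] [Finite U] {p : ℕ} [Fact p.Prime] (hU : IsPGroup p U)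
    {V : Type*} [AddCommGroup V] [Module (ZMod p) V] (act : U → V →+ V)
    (hmul : ∀ a b x, act (a * b) x = act a (act b x)) (hone : ∀ x, act 1 x = x)
    {w : V} (hw : w ≠ 0) : ∃ v, v ≠ 0 ∧ ∀ u, act u v = v := by
  let W : Submodule (ZMod p) V := Submodule.span (ZMod p) (Set.range fun u : U => act u w)
  have hfin : Module.Finite (ZMod p) W := Module.Finite.span_of_finite (ZMod p) (Set.finite_range _)
  have : Finite W := Module.finite_of_finite (ZMod p)
  have hW : ∀ u : U, ∀ x ∈ W, act u x ∈ W := by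
    intro u x hx
    refine Submodule.span_induction ?_ ?_ ?_ ?_ hx
    · rintro _ ⟨h, rfl⟩
      exact Submodule.subset_span ⟨u * h, hmul u h w⟩
    · simp
    · intro a b _ _ ha hb; rw [map_add]; exact W.add_mem ha hb
    · intro c a _ ha
      obtain ⟨n, rfl⟩ := ZMod.natCast_zmod_surjective c
      rw [Nat.cast_smul_eq_nsmul, map_nsmul]
      exact W.nsmul_mem ha n
  letI : MulAction U W :=
    { smul := fun u x => ⟨act u x, hW _ _ x.2⟩
      one_smul := fun x => Subtype.ext (hone x)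
      mul_smul := fun a b x => Subtype.ext (hmul a b x) }
  have : Nontrivial W := ⟨⟨⟨w, Submodule.subset_span ⟨1, hone w⟩⟩, 0, fun e =>
    hw (congrArg Subtype.val e)⟩⟩
  have hdvd : p ∣ Nat.card W := by
    rw [Module.natCard_eq_pow_finrank (K := ZMod p), Nat.card_zmod]
    exact dvd_pow_self p Module.finrank_pos.ne'
  have h0 : (0 : W) ∈ MulAction.fixedPoints U W := fun u => Subtype.ext (map_zero (act u))
  obtain ⟨b, hb, hne⟩ := hU.exists_fixed_point_of_prime_dvd_card_of_fixed_point W hdvd h0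
  exact ⟨(b : V), fun e => hne (Subtype.ext e.symm), fun u => congrArg Subtype.val (hb u)⟩

namespace BNData

variable (D : BNData G p q l) {k : Type*} [Field k]
variable {V : Type*} [AddCommGroup V] [Module k V] {ρ : G →* Module.End k V}

theorem moved_moved (χ : ↥D.T →* kˣ) {a b : G} (ha : a ∈ D.N) (hb : b ∈ D.N) :
    D.moved k (D.moved k χ a ha) b hb = D.moved k χ (a * b) (mul_mem ha hb) := by
  ext t
  show ((χ _ : kˣ) : k) = ((χ _ : kˣ) : k)
  congr 2
  exact Subtype.ext (by simp [mul_assoc])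

theorem moved_fix {χ : ↥D.T →* kˣ} {i : Fin l}
    (h : ∀ x : ↥D.T, (x : G) ∈ D.H i → χ x = 1) : D.moved k χ (D.n i) (D.n_mem i) = χ := by
  refine MonoidHom.ext fun t => ?_
  have h1 := h ⟨_, D.H_le i (D.comm_H i t t.2)⟩ (D.comm_H i t t.2)
  calc D.moved k χ (D.n i) (D.n_mem i) t = χ (⟨_, D.H_le i (D.comm_H i t t.2)⟩ * t) := by
        show χ _ = χ _
        congr 1
        exact Subtype.ext (by simp [mul_assoc])
    _ = χ t := by rw [map_mul, h1, one_mul]

/-- The character is trivial on the subgroup of a node. -/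
def Triv (χ : ↥D.T →* kˣ) (i : Fin l) : Prop := ∀ x : ↥D.T, (x : G) ∈ D.H i → χ x = 1

theorem cval_of_triv {χ : ↥D.T →* kˣ} {i : Fin l} (h : D.Triv χ i) : D.cval χ i = -1 := if_pos h

theorem cval_of_not {χ : ↥D.T →* kˣ} {i : Fin l} (h : ¬ D.Triv χ i) : D.cval χ i = 0 := if_neg h

theorem triv_of_moved {χ : ↥D.T →* kˣ} {i : Fin l}
    (h : D.Triv (D.moved k χ (D.n i) (D.n_mem i)) i) : D.Triv χ i := by
  intro x hx
  have hx' : (D.n i)⁻¹ * (x : G) * D.n i ∈ D.H i := by
    have := D.comm_H i _ (D.N_norm (D.n i)⁻¹ (inv_mem (D.n_mem i)) x x.2)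
    have h2 := mul_mem (inv_mem this) hx
    convert h2 using 1
    simp only [inv_inv]; group
  have := h ⟨_, D.H_le i hx'⟩ hx'
  rw [← this]
  show χ x = χ _
  congr 1
  exact Subtype.ext (by simp [mul_assoc])

/-- A weight vector: an eigenvector of the torus and of all reflection operators. -/
structure IsWVec (ρ : G →* Module.End k V) (χ : ↥D.T →* kˣ) (S : Set (Fin l)) (v : V) : Prop where
  ne : v ≠ 0
  wt : D.Wt ρ χ v
  triv : ∀ i ∈ S, D.Triv χ i
  eig : ∀ i, D.op ρ (D.n i) v = if i ∈ S then -v else 0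

theorem H_card (i : Fin l) : Nat.card ↥(D.H i) = q - 1 := by
  obtain ⟨τ, hτ, -⟩ := D.rk1 i
  letI := Fintype.ofFinite ↥(D.X i)
  rw [← Nat.card_eq_of_bijective τ hτ, Nat.card_eq_fintype_card, Fintype.card_subtype_compl,
    Fintype.card_subtype_eq, ← Nat.card_eq_fintype_card, D.card_X]

theorem card_T : Nat.card ↥D.T = (q - 1) ^ l := by
  rw [← Nat.card_congr D.tor.toEquiv, Nat.card_pi, Finset.prod_congr rfl fun i _ => D.H_card i,
    Finset.prod_const, Finset.card_univ, Fintype.card_fin]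

variable [hp : Fact p.Prime] {f : ℕ} (hf : 1 ≤ f) (hq : q = p ^ f)
include hf hq

theorem not_dvd_T : ¬ p ∣ Nat.card ↥D.T := by
  rw [D.card_T]
  intro h
  have h1 := hp.out.dvd_of_dvd_pow h
  have h2 : p ∣ q := hq ▸ dvd_pow_self p (by omega)
  have h3 : 1 ≤ q := hq ▸ Nat.one_le_pow _ _ hp.out.pos
  have h4 := Nat.dvd_sub h2 h1
  rw [show q - (q - 1) = 1 by omega] at h4
  exact hp.out.one_lt.ne' (Nat.dvd_one.1 h4)

theorem two_le_q : 2 ≤ q := hq ▸ hp.out.two_le.trans (Nat.le_self_pow (by omega) p)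

theorem exists_ne_one (i : Fin l) : ∃ x ∈ D.X i, x ≠ 1 := by
  by_contra h
  push Not at h
  have h1 : D.X i = ⊥ := (Subgroup.eq_bot_iff_forall _).2 h
  have h2 := D.card_X i
  rw [h1, Subgroup.card_bot] at h2
  have := two_le_q (p := p) hf hq
  omega

theorem not_inc {i : Fin l} {m : G} (h : ∀ x ∈ D.X i, m⁻¹ * x * m ∈ D.Um) : ¬ D.Inc i m := by
  intro hi
  obtain ⟨x, hx, hne⟩ := exists_ne_one D hf hq i
  have h1 : m⁻¹ * x * m ∈ D.U ⊓ D.Um := ⟨(hi x hx).1, h x hx⟩
  rw [D.disjoint, Subgroup.mem_bot] at h1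
  apply hne
  have e : x = m * (m⁻¹ * x * m) * m⁻¹ := by group
  rw [e, h1]; group

theorem card_K_lt {i : Fin l} {m : G} (hm : m ∈ D.N) (hi : D.Inc i m) :
    Nat.card (D.K (D.n i * m)) < Nat.card (D.K m) := by
  have hmem : ∀ u : ↥(D.K (D.n i * m)), (D.n i)⁻¹ * ((u : ↥D.U) : G) * D.n i ∈ D.U := fun u =>
    D.K_succ hm hi (u : ↥D.U).2 (D.mem_K.1 u.2)
  let F : ↥(D.K (D.n i * m)) → ↥(D.K m) := fun u => ⟨⟨_, hmem u⟩, D.mem_K.2 (by
    have := D.mem_K.1 u.2
    convert this using 1; group)⟩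
  have hF : Function.Injective F := fun a b h => by
    have := congrArg (fun z : ↥(D.K m) => ((z : ↥D.U) : G)) h
    simp only [F, mul_left_inj, mul_right_inj] at this
    exact Subtype.ext (Subtype.ext this)
  refine lt_of_le_of_ne (Nat.card_le_card_of_injective F hF) fun hcard => ?_
  obtain ⟨x, hx, hne⟩ := exists_ne_one D hf hq i
  obtain ⟨u, hu⟩ := (hF.bijective_of_nat_card_le hcard.ge).2
    ⟨⟨x, D.X_le i hx⟩, D.mem_K.2 (hi x hx).1⟩
  have hu' := congrArg (fun z : ↥(D.K m) => ((z : ↥D.U) : G)) hu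
  simp only [F] at hu'
  have h1 : D.n i * x * (D.n i)⁻¹ ∈ D.U ⊓ D.Um := by
    refine ⟨?_, D.Xm i x hx⟩
    have e : D.n i * x * (D.n i)⁻¹ = ((u : ↥D.U) : G) := by rw [← hu']; group
    rw [e]; exact (u : ↥D.U).2
  rw [D.disjoint, Subgroup.mem_bot] at h1
  apply hne
  have e : x = (D.n i)⁻¹ * (D.n i * x * (D.n i)⁻¹) * D.n i := by group
  rw [e, h1]; group

variable [CharP k p]

/-- Every nonzero representation has a weight vector. -/
theorem exists_wvec [IsAlgClosed k] [FiniteDimensional k V] [Nontrivial V] :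
    ∃ χ S, ∃ v : V, D.IsWVec ρ χ S v := by
  -- a fixed vector
  letI := Fintype.ofFinite G
  obtain ⟨w₀, hw₀⟩ := exists_ne (0 : V)
  letI : Module (ZMod p) V := AddCommGroup.zmodModule fun x => by
    rw [← Nat.cast_smul_eq_nsmul k, CharP.cast_eq_zero, zero_smul]
  have hfix : ∃ v : V, v ≠ 0 ∧ D.FixU ρ v := by
    obtain ⟨v, hv, h⟩ := exists_fixed D.hU
      (fun u => (ρ (u : G)).toAddMonoidHom) (fun a b x => by simp [ρ_mul])
      (fun x => by simp [ρ_one]) hw₀
    exact ⟨v, hv, fun u hu => h ⟨u, hu⟩⟩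
  obtain ⟨w₁, hw₁, hw₁fix⟩ := hfix
  -- an eigenvector of the torus
  let Good' : Submodule k V → Prop := fun W => W ≠ ⊥ ∧ (∀ w ∈ W, D.FixU ρ w) ∧
    ∀ t ∈ D.T, ∀ w ∈ W, ρ t w ∈ W
  have hgood : ∃ W, Good' W := by
    refine ⟨{ carrier := {w | D.FixU ρ w}
              add_mem' := fun ha hb u hu => by rw [map_add, ha u hu, hb u hu]
              zero_mem' := fun u _ => map_zero _
              smul_mem' := fun c w hw u hu => by rw [map_smul, hw u hu] }, ?_, fun w hw => hw, ?_⟩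
    · exact fun e => hw₁ ((Submodule.eq_bot_iff _).1 e w₁ hw₁fix)
    · intro t ht w hw u hu
      have h : t⁻¹ * u * t ∈ D.U := by simpa using D.T_norm t⁻¹ (inv_mem ht) u hu
      rw [← ρ_mul, show u * t = t * (t⁻¹ * u * t) by group, ρ_mul, hw _ h]
  obtain ⟨W, hW, hmin⟩ := (IsWellFounded.wf (r := ((· < ·) : Submodule k V → Submodule k V → Prop))).has_min
    {W | Good' W} hgood
  obtain ⟨hWne, hWfix, hWT⟩ := hW
  haveI : Nontrivial W := Submodule.nontrivial_iff_ne_bot.2 hWne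
  have heig : ∀ t : ↥D.T, ∃ c : k, ∀ w ∈ W, ρ t w = c • w := by
    intro t
    let F : Module.End k W := (ρ (t : G)).restrict fun w hw => hWT t t.2 w hw
    obtain ⟨c, hc⟩ := Module.End.exists_eigenvalue F
    refine ⟨c, ?_⟩
    let W' : Submodule k V := W ⊓ LinearMap.ker (ρ (t : G) - c • (1 : Module.End k V))
    have hW' : W' = W := by
      by_contra hne
      refine hmin W' ⟨?_, fun w hw => hWfix w hw.1, ?_⟩ (lt_of_le_of_ne inf_le_left hne)
      · obtain ⟨v, hv⟩ := hc.exists_hasEigenvector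
        intro e
        refine hv.2 (Subtype.ext ((Submodule.eq_bot_iff _).1 e _ ⟨v.2, ?_⟩))
        have h := congrArg Subtype.val hv.apply_eq_smul
        simp only [SetLike.mem_coe, LinearMap.mem_ker, LinearMap.sub_apply, LinearMap.smul_apply,
          Module.End.one_apply, sub_eq_zero]
        exact h
      · rintro s hs w ⟨h1, h2⟩
        refine ⟨hWT s hs w h1, ?_⟩
        simp only [SetLike.mem_coe, LinearMap.mem_ker, LinearMap.sub_apply, LinearMap.smul_apply,
          Module.End.one_apply, sub_eq_zero] at h2 ⊢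
        rw [← ρ_mul, D.hTcomm _ t.2 _ hs, ρ_mul, h2, map_smul]
    intro w hw
    have h2 : w ∈ W' := by rw [hW']; exact hw
    simpa [W', sub_eq_zero] using h2.2
  choose c hc using heig
  obtain ⟨⟨v₀, hv₀W⟩, hv₀'⟩ := exists_ne (0 : W)
  have hv₀ : v₀ ≠ 0 := fun e => hv₀' (Subtype.ext e)
  have hcm : ∀ a b, c (a * b) = c a * c b := by
    intro a b
    have h : ρ ((a * b : ↥D.T) : G) v₀ = c (a * b) • v₀ := hc _ _ hv₀W
    rw [Subgroup.coe_mul, ρ_mul, hc b v₀ hv₀W, map_smul, hc a v₀ hv₀W, smul_smul] at h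
    exact smul_left_injective k hv₀ (by simpa [mul_comm (c a)] using h.symm)
  have hc1 : c 1 = 1 := smul_left_injective k hv₀ (by
    show c 1 • v₀ = (1 : k) • v₀
    rw [← hc 1 v₀ hv₀W, Subgroup.coe_one, ρ_one, one_smul])
  let χ₀ : ↥D.T →* kˣ :=
    { toFun := fun t => ⟨c t, c t⁻¹, by rw [← hcm, mul_inv_cancel, hc1],
        by rw [← hcm, inv_mul_cancel, hc1]⟩
      map_one' := Units.ext hc1
      map_mul' := fun a b => Units.ext (hcm a b) }
  have hwt₀ : D.Wt ρ χ₀ v₀ := ⟨hWfix v₀ hv₀W, fun t => hc t v₀ hv₀W⟩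
  -- the longest nonvanishing operator
  have hop1 : D.op ρ 1 v₀ = v₀ := by
    letI := Fintype.ofFinite (↥D.U ⧸ D.K 1)
    rw [op, LinearMap.sum_apply]
    have htop : ∀ u : ↥D.U, u ∈ D.K 1 := fun u => D.mem_K.2 (by simp)
    rw [Fintype.sum_eq_single (QuotientGroup.mk 1) fun x hx => ?_]
    · rw [D.out_mk _ hwt₀.1, Subgroup.coe_one, mul_one, ρ_one]
    · induction x using QuotientGroup.induction_on with
      | _ a => exact absurd (QuotientGroup.eq.2 (htop _)) hx
  obtain ⟨⟨m, hm⟩, hm0, hmax⟩ := Finset.exists_min_image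
    (Finset.univ.filter fun m : ↥D.N => D.op ρ (m : G) v₀ ≠ 0) (fun m => Nat.card (D.K (m : G)))
    ⟨1, by simp [hop1, hv₀]⟩
  simp only [Finset.mem_filter, Finset.mem_univ, true_and] at hm0 hmax
  set v := D.op ρ m v₀ with hv
  set χ := D.moved k χ₀ m⁻¹ (inv_mem hm)
  have hχ : D.moved k χ m hm = χ₀ := by
    rw [D.moved_moved]
    refine MonoidHom.ext fun t => ?_
    show χ₀ _ = χ₀ t
    congr 1
    exact Subtype.ext (by simp)
  have hwt : D.Wt ρ χ v := D.op_wt hm (by rw [hχ]; exact hwt₀)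
  have key : ∀ i, D.op ρ (D.n i) v = 0 ∨ (D.op ρ (D.n i) v = -v ∧ D.Triv χ i) := by
    intro i
    rcases D.inc_or hm i with h | h
    · left
      rw [hv, D.op_succ hm h hwt₀.1]
      by_contra hne
      have := hmax ⟨D.n i * m, mul_mem (D.n_mem i) hm⟩ hne
      exact absurd this (not_le.2 (card_K_lt D hf hq hm h))
    · set m' := (D.n i)⁻¹ * m
      have hm' : m' ∈ D.N := mul_mem (inv_mem (D.n_mem i)) hm
      have e : v = D.op ρ (D.n i) (D.op ρ m' v₀) := by
        rw [D.op_succ hm' h hwt₀.1, hv, mul_inv_cancel_left]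
      set χ' := D.moved k χ (D.n i) (D.n_mem i)
      have hχ' : D.moved k χ' m' hm' = χ₀ := by
        rw [D.moved_moved]
        simp only [m', mul_inv_cancel_left]
        exact hχ
      have hwt' : D.Wt ρ χ' (D.op ρ m' v₀) := D.op_wt hm' (by rw [hχ']; exact hwt₀)
      rw [e, D.op_sq hf hq i hwt']
      by_cases ht : D.Triv χ' i
      · exact Or.inr ⟨by rw [D.cval_of_triv ht, neg_one_smul], D.triv_of_moved ht⟩
      · exact Or.inl (by rw [D.cval_of_not ht, zero_smul])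
  refine ⟨χ, {i | D.op ρ (D.n i) v = -v}, v, hm0, hwt, fun i hi => ?_, fun i => ?_⟩
  · rcases key i with h | h
    · have hh : D.op ρ (D.n i) v = -v := hi
      rw [h] at hh
      exact absurd (neg_eq_zero.1 hh.symm) hm0
    · exact h.2
  · by_cases hi : D.op ρ (D.n i) v = -v
    · rw [if_pos (show i ∈ {i | D.op ρ (D.n i) v = -v} from hi)]; exact hi
    · rw [if_neg (show i ∉ {i | D.op ρ (D.n i) v = -v} from hi)]
      exact (key i).resolve_right fun h => hi h.1

/-- A stable subspace. -/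
def Stable (ρ : G →* Module.End k V) (W : Submodule k V) : Prop := ∀ g : G, ∀ w ∈ W, ρ g w ∈ W

/-- The span of the `U`-orbit of the moved weight vector is stable. -/
theorem span_stable {χ : ↥D.T →* kˣ} {S : Set (Fin l)} {v : V} (hv : D.IsWVec ρ χ S v) :
    Stable ρ (Submodule.span k (Set.range fun u : ↥D.U => ρ ((u : G) * D.n0) v)) := by
  set M := Submodule.span k (Set.range fun u : ↥D.U => ρ ((u : G) * D.n0) v)
  have hgen : ∀ u ∈ D.U, ρ (u * D.n0) v ∈ M := fun u hu => Submodule.subset_span ⟨⟨u, hu⟩, rfl⟩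
  let Stab : Subgroup G :=
    { carrier := {g | ∀ w ∈ M, ρ g w ∈ M}
      one_mem' := fun w hw => by rwa [ρ_one]
      mul_mem' := fun {a b} ha hb w hw => by rw [ρ_mul]; exact ha _ (hb _ hw)
      inv_mem' := fun {a} ha w hw => by
        have hpow : ∀ n : ℕ, ∀ w ∈ M, ρ (a ^ n) w ∈ M := by
          intro n
          induction n with
          | zero => intro w hw; rwa [pow_zero, ρ_one]
          | succ n ih => intro w hw; rw [pow_succ, ρ_mul]; exact ih _ (ha _ hw)
        have e : a⁻¹ = a ^ (orderOf a - 1) := by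
          apply inv_eq_of_mul_eq_one_right
          rw [← pow_succ', Nat.sub_add_cancel (orderOf_pos a), pow_orderOf_eq_one]
        rw [e]; exact hpow _ w hw }
  suffices htop : Stab = ⊤ from fun g w hw =>
    (show g ∈ Stab by rw [htop]; trivial) w hw
  rw [eq_top_iff, ← D.gen, Subgroup.closure_le]
  have hgens : ∀ g : G, (∀ u ∈ D.U, ρ (g * (u * D.n0)) v ∈ M) → g ∈ Stab := by
    intro g hg w hw
    refine Submodule.span_induction ?_ ?_ ?_ ?_ hw
    · rintro _ ⟨u, rfl⟩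
      rw [← ρ_mul]; exact hg u u.2
    · simp
    · intro a b _ _ ha hb; rw [map_add]; exact M.add_mem ha hb
    · intro c a _ ha; rw [map_smul]; exact M.smul_mem _ ha
  have hT : ∀ t ∈ D.T, ∀ u ∈ D.U, ρ (t * (u * D.n0)) v ∈ M := by
    intro t ht u hu
    have ht' : D.n0⁻¹ * t * D.n0 ∈ D.T := by
      simpa using D.N_norm D.n0⁻¹ (inv_mem D.n0_mem) t ht
    rw [show t * (u * D.n0) = (t * u * t⁻¹ * D.n0) * (D.n0⁻¹ * t * D.n0) by group, ρ_mul,
      hv.wt.2 ⟨_, ht'⟩, map_smul]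
    exact M.smul_mem _ (hgen _ (D.T_norm t ht u hu))
  rintro g ((hg | hg) | ⟨i, rfl⟩)
  · exact hgens g fun u hu => by rw [← mul_assoc]; exact hgen _ (mul_mem hg hu)
  · exact hgens g (hT g hg)
  refine hgens _ fun u hu => ?_
  obtain ⟨x, hx, w, hw, hnw, rfl⟩ := D.decomp i u hu
  have hw' : x * w * x⁻¹ ∈ D.U := mul_mem (mul_mem (D.X_le i hx) hw) (inv_mem (D.X_le i hx))
  have hnw' := D.X_conj i x hx w hw hnw
  suffices key : ρ (D.n i * x * D.n0) v ∈ M by
    rw [show D.n i * (x * w * D.n0) =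
      (D.n i * (x * w * x⁻¹) * (D.n i)⁻¹) * (D.n i * x * D.n0) by group, ρ_mul]
    have : ∀ a ∈ D.U, ∀ y ∈ M, ρ a y ∈ M := fun a ha y hy => by
      refine Submodule.span_induction ?_ ?_ ?_ ?_ hy
      · rintro _ ⟨b, rfl⟩
        rw [← ρ_mul, ← mul_assoc]; exact hgen _ (mul_mem ha b.2)
      · simp
      · intro a b _ _ ha hb; rw [map_add]; exact M.add_mem ha hb
      · intro c a _ ha; rw [map_smul]; exact M.smul_mem _ ha
    exact this _ hnw' _ key
  by_cases hx1 : x = 1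
  · subst hx1
    obtain ⟨j, t, ht, ej⟩ := D.n0_simple i
    rw [show D.n i * 1 * D.n0 = D.n0 * (D.n j * t) by rw [← ej]; group, ρ_mul, ρ_mul ρ (D.n j),
      hv.wt.2 ⟨t, ht⟩, map_smul, map_smul]
    refine M.smul_mem _ ?_
    -- the reflection applied to the weight vector
    letI := Fintype.ofFinite ↥(D.X j)
    have hS := hv.eig j
    rw [D.op_n_eq j hv.wt.1, ← Finset.add_sum_erase _ _ (Finset.mem_univ (1 : ↥(D.X j))),
      Subgroup.coe_one, one_mul] at hS
    have hn : ρ (D.n j) v = (if j ∈ S then -v else 0) -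
        ∑ y ∈ Finset.univ.erase (1 : ↥(D.X j)), ρ ((y : G) * D.n j) v :=
      eq_sub_of_add_eq hS
    rw [hn, map_sub, map_sum]
    refine M.sub_mem ?_ (M.sum_mem fun y hy => ?_)
    · have h1 : ρ D.n0 v ∈ M := by simpa using hgen 1 (one_mem _)
      split_ifs
      · rw [map_neg]; exact M.neg_mem h1
      · rw [map_zero]; exact M.zero_mem
    · obtain ⟨τ, -, hrk⟩ := D.rk1 j
      obtain ⟨a, ha, b, hb, e⟩ := hrk ⟨y, Finset.ne_of_mem_erase hy⟩
      set τy := τ ⟨y, Finset.ne_of_mem_erase hy⟩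
      have e2 : D.n0 * ((y : G) * D.n j) =
          (D.n0 * ((D.n j)⁻¹ * a * D.n j) * D.n0⁻¹) * D.n0 * ((τy : G) * b) := by
        have e' : (y : G) * D.n j = (D.n j)⁻¹ * (D.n j * (y : G) * D.n j) := by group
        rw [e', e]; group
      have hmem : D.n0 * ((D.n j)⁻¹ * a * D.n j) * D.n0⁻¹ ∈ D.U := by
        apply D.n0_flip'
        have := D.Xm j _ (D.X_conj_inv ha (D.n_sq j))
        convert this using 1; group
      rw [← ρ_mul, e2, ρ_mul, ρ_mul ρ (τy : G), hv.wt.1 b (D.X_le j hb),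
        hv.wt.2 ⟨_, D.H_le j τy.2⟩, map_smul]
      exact M.smul_mem _ (hgen _ hmem)
  · obtain ⟨τ, -, hrk⟩ := D.rk1 i
    obtain ⟨a, ha, b, hb, e⟩ := hrk ⟨⟨x, hx⟩, fun h => hx1 (congrArg Subtype.val h)⟩
    set τx := τ ⟨⟨x, hx⟩, fun h => hx1 (congrArg Subtype.val h)⟩
    simp only at e
    have hb' : D.n0⁻¹ * (D.n i * b * (D.n i)⁻¹) * D.n0 ∈ D.U := by
      have h0 := D.T_norm _ (inv_mem D.n0_sq) _ (D.n0_flip' _ (D.Xm i b hb))
      -- conjugation by the inverse of the longest element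
      have h1 : D.n0 * (D.n i * b * (D.n i)⁻¹) * D.n0⁻¹ ∈ D.U := D.n0_flip' _ (D.Xm i b hb)
      convert D.T_norm _ (inv_mem D.n0_sq) _ h1 using 1
      group
    have ht : D.n0⁻¹ * (D.n i * (τx : G) * (D.n i)⁻¹) * D.n0 ∈ D.T := by
      have h1 := D.N_norm _ (D.n_mem i) _ (D.H_le i τx.2)
      simpa using D.N_norm D.n0⁻¹ (inv_mem D.n0_mem) _ h1
    have e2 : D.n i * x * D.n0 = (a * D.n0) * ((D.n0⁻¹ * (D.n i * (τx : G) * (D.n i)⁻¹) * D.n0) *
        (D.n0⁻¹ * (D.n i * b * (D.n i)⁻¹) * D.n0)) := by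
      have : D.n i * x * D.n0 = (D.n i * x * D.n i) * ((D.n i)⁻¹ * D.n0) := by group
      rw [this, e]; group
    rw [e2, ρ_mul, ρ_mul ρ (D.n0⁻¹ * (D.n i * (τx : G) * (D.n i)⁻¹) * D.n0), hv.wt.1 _ hb',
      hv.wt.2 ⟨_, ht⟩, map_smul]
    exact M.smul_mem _ (hgen a (D.X_le i ha))

omit hf hq in
/-- A fixed functional is determined by its value at the moved weight vector. -/
theorem functional_zero {v : V}
    (htop : Submodule.span k (Set.range fun u : ↥D.U => ρ ((u : G) * D.n0) v) = ⊤)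
    (φ : V →ₗ[k] k) (hφ : ∀ u ∈ D.U, ∀ x, φ (ρ u x) = φ x) (h0 : φ (ρ D.n0 v) = 0) : φ = 0 := by
  refine LinearMap.ext_on_range htop fun u => ?_
  rw [ρ_mul, hφ _ u.2, h0]; rfl

end BNData

end Cfsg.Agent.Lib.Modular
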