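import Cfsg.Agent.Lib.Modular.Weights

/-!
The number of regular classes of a group with a split BN datum.
-/

set_option autoImplicit false
set_option linter.unusedSectionVars false

namespace Cfsg.Agent.Lib.Modular

open Matrix
open scoped Classical

variable {G : Type*} [Group G] [Finite G] {p q l : ℕ} {k : Type*} [Field k]

namespace Split

variable (S : Split k G)

/-- The representation of a factor. -/
noncomputable def rep (i : Fin S.m) : G →* Module.End k (Fin (S.d i) → k) :=
  (((Matrix.toLinAlgEquiv' (R := k) (n := Fin (S.d i))).toAlgHom.comp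
    ((Pi.evalAlgHom k (fun i => Matrix (Fin (S.d i)) (Fin (S.d i)) k) i).comp S.π)) :
      MonoidAlgebra k G →* Module.End k (Fin (S.d i) → k)).comp (MonoidAlgebra.of k G)

theorem rep_apply (i : Fin S.m) (g : G) (v : Fin (S.d i) → k) :
    S.rep i g v = S.π (MonoidAlgebra.of k G g) i *ᵥ v := by
  simp [rep, Matrix.toLinAlgEquiv'_apply]

/-- The dual representation of a factor. -/
noncomputable def drep (i : Fin S.m) : G →* Module.End k (Fin (S.d i) → k) where
  toFun g := Matrix.toLinAlgEquiv' (S.π (MonoidAlgebra.of k G g⁻¹) i)ᵀ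
  map_one' := by rw [inv_one, map_one, map_one, Pi.one_apply, Matrix.transpose_one, map_one]
  map_mul' a b := by
    rw [_root_.mul_inv_rev, map_mul, map_mul, Pi.mul_apply, Matrix.transpose_mul, map_mul]

theorem drep_apply (i : Fin S.m) (g : G) (v : Fin (S.d i) → k) :
    S.drep i g v = v ᵥ* S.π (MonoidAlgebra.of k G g⁻¹) i := by
  show Matrix.toLinAlgEquiv' _ v = _
  rw [Matrix.toLinAlgEquiv'_apply, Matrix.mulVec_transpose]

theorem dual_pair (i : Fin S.m) (g : G) (x y : Fin (S.d i) → k) :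
    S.drep i g y ⬝ᵥ x = y ⬝ᵥ S.rep i g⁻¹ x := by
  rw [drep_apply, rep_apply, Matrix.dotProduct_mulVec]

theorem mulVec_mem {i : Fin S.m} {W : Submodule k (Fin (S.d i) → k)}
    (hW : BNData.Stable (S.rep i) W) (a : MonoidAlgebra k G) {w : Fin (S.d i) → k} (hw : w ∈ W) :
    S.π a i *ᵥ w ∈ W := by
  induction a using MonoidAlgebra.induction_on with
  | of g => rw [← S.rep_apply]; exact hW g w hw
  | add a b ha hb => rw [map_add, Pi.add_apply, Matrix.add_mulVec]; exact W.add_mem ha hb
  | smul c a ha => rw [map_smul, Pi.smul_apply, Matrix.smul_mulVec]; exact W.smul_mem _ ha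

theorem exists_π_eq (i : Fin S.m) (M : Matrix (Fin (S.d i)) (Fin (S.d i)) k) :
    ∃ a, S.π a i = M := by
  obtain ⟨a, ha⟩ := S.surj (Pi.single i M)
  exact ⟨a, by rw [ha, Pi.single_eq_same]⟩

theorem exists_mat {n : ℕ} {v : Fin n → k} (hv : v ≠ 0) (x : Fin n → k) :
    ∃ M : Matrix (Fin n) (Fin n) k, M *ᵥ v = x := by
  obtain ⟨j, hj⟩ := Function.ne_iff.1 hv
  simp only [Pi.zero_apply] at hj
  refine ⟨Matrix.of fun r c => if c = j then x r * (v j)⁻¹ else 0, funext fun r => ?_⟩
  simp [Matrix.mulVec, dotProduct, mul_assoc, inv_mul_cancel₀ hj]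

theorem rep_irred {i : Fin S.m} {W : Submodule k (Fin (S.d i) → k)}
    (hW : BNData.Stable (S.rep i) W) {w : Fin (S.d i) → k} (hw : w ∈ W) (hne : w ≠ 0) : W = ⊤ := by
  refine eq_top_iff.2 fun x _ => ?_
  obtain ⟨M, hM⟩ := exists_mat hne x
  obtain ⟨a, ha⟩ := S.exists_π_eq i M
  rw [← hM, ← ha]
  exact S.mulVec_mem hW a hw

theorem drep_irred {i : Fin S.m} {W : Submodule k (Fin (S.d i) → k)}
    (hW : BNData.Stable (S.drep i) W) {w : Fin (S.d i) → k} (hw : w ∈ W) (hne : w ≠ 0) : W = ⊤ := by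
  have key : ∀ a : MonoidAlgebra k G, w ᵥ* S.π a i ∈ W := by
    intro a
    induction a using MonoidAlgebra.induction_on with
    | of g => rw [← inv_inv g, ← S.drep_apply]; exact hW _ w hw
    | add a b ha hb => rw [map_add, Pi.add_apply, Matrix.vecMul_add]; exact W.add_mem ha hb
    | smul c a ha => rw [map_smul, Pi.smul_apply, Matrix.vecMul_smul]; exact W.smul_mem _ ha
  refine eq_top_iff.2 fun x _ => ?_
  obtain ⟨M, hM⟩ := exists_mat hne x
  obtain ⟨a, ha⟩ := S.exists_π_eq i Mᵀ
  have := key a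
  rwa [ha, Matrix.vecMul_transpose, hM] at this

theorem pair_mem {i j : Fin S.m} (hij : i ≠ j)
    {W : Submodule k ((Fin (S.d i) → k) × (Fin (S.d j) → k))}
    (hW : ∀ g : G, ∀ w ∈ W, (S.rep i g w.1, S.rep j g w.2) ∈ W)
    {v : Fin (S.d i) → k} {v' : Fin (S.d j) → k} (hv : v ≠ 0) (hv' : v' ≠ 0) (h : (v, v') ∈ W) :
    W = ⊤ := by
  have key : ∀ a : MonoidAlgebra k G, (S.π a i *ᵥ v, S.π a j *ᵥ v') ∈ W := by
    intro a
    induction a using MonoidAlgebra.induction_on with
    | of g => rw [← S.rep_apply, ← S.rep_apply]; exact hW g _ h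
    | add a b ha hb =>
      rw [map_add, Pi.add_apply, Pi.add_apply, Matrix.add_mulVec, Matrix.add_mulVec]
      exact W.add_mem ha hb
    | smul c a ha =>
      rw [map_smul, Pi.smul_apply, Pi.smul_apply, Matrix.smul_mulVec, Matrix.smul_mulVec]
      exact W.smul_mem c ha
  refine eq_top_iff.2 ?_
  rintro ⟨x, y⟩ -
  obtain ⟨M, hM⟩ := exists_mat hv x
  obtain ⟨M', hM'⟩ := exists_mat hv' y
  obtain ⟨a, ha⟩ := S.surj (Pi.single i M + Pi.single j M')
  have := key a
  simp only [ha, Pi.add_apply, Pi.single_eq_same, Pi.single_eq_of_ne hij,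
    Pi.single_eq_of_ne (Ne.symm hij), add_zero, zero_add, hM, hM'] at this
  exact this

end Split

namespace BNData

variable (D : BNData G p q l) [hp : Fact p.Prime] {f : ℕ} (hf : 1 ≤ f) (hq : q = p ^ f)
variable [IsAlgClosed k] [CharP k p] (S : Split k G)
include hf hq

theorem span_top_rep {i : Fin S.m} {χ : ↥D.T →* kˣ} {A : Set (Fin l)} {v : Fin (S.d i) → k}
    (hv : D.IsWVec (S.rep i) χ A v) :
    Submodule.span k (Set.range fun u : ↥D.U => S.rep i ((u : G) * D.n0) v) = ⊤ := by
  refine S.rep_irred (D.span_stable hf hq hv)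
    (w := S.rep i D.n0 v) (Submodule.subset_span ⟨1, by simp⟩) fun e => hv.ne ?_
  have := congrArg (S.rep i D.n0⁻¹) e
  rwa [← ρ_mul, inv_mul_cancel, ρ_one, map_zero] at this

theorem span_top_drep {i : Fin S.m} {χ : ↥D.T →* kˣ} {A : Set (Fin l)} {v : Fin (S.d i) → k}
    (hv : D.IsWVec (S.drep i) χ A v) :
    Submodule.span k (Set.range fun u : ↥D.U => S.drep i ((u : G) * D.n0) v) = ⊤ := by
  refine S.drep_irred (D.span_stable hf hq hv)
    (w := S.drep i D.n0 v) (Submodule.subset_span ⟨1, by simp⟩) fun e => hv.ne ?_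
  have := congrArg (S.drep i D.n0⁻¹) e
  rwa [← ρ_mul, inv_mul_cancel, ρ_one, map_zero] at this

/-- A factor has only one weight. -/
theorem wvec_unique {i : Fin S.m} {χ χ' : ↥D.T →* kˣ} {A A' : Set (Fin l)}
    {v v' : Fin (S.d i) → k} (hv : D.IsWVec (S.rep i) χ A v) (hv' : D.IsWVec (S.rep i) χ' A' v') :
    χ = χ' ∧ A = A' := by
  haveI : NeZero (S.d i) := S.ne i
  haveI : Nontrivial (Fin (S.d i) → k) := inferInstance
  obtain ⟨ψ, B, y, hy⟩ := D.exists_wvec (ρ := S.drep i) hf hq
  have htop := D.span_top_drep hf hq S hy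
  let φ : (Fin (S.d i) → k) → (Fin (S.d i) → k) →ₗ[k] k := fun x =>
    { toFun := fun z => z ⬝ᵥ x
      map_add' := fun a b => add_dotProduct a b x
      map_smul' := fun c a => smul_dotProduct c a x }
  have hφ : ∀ x, D.FixU (S.rep i) x → ∀ u ∈ D.U, ∀ z, φ x (S.drep i u z) = φ x z := by
    intro x hx u hu z
    show S.drep i u z ⬝ᵥ x = z ⬝ᵥ x
    rw [S.dual_pair, hx _ (inv_mem hu)]
  have hzero : ∀ x, φ x = 0 → x = 0 := fun x h =>
    dotProduct_eq_zero x fun z => by
      rw [dotProduct_comm]; exact LinearMap.congr_fun h z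
  set m := S.drep i D.n0 y
  have hne : ∀ x, D.FixU (S.rep i) x → x ≠ 0 → φ x m ≠ 0 := fun x hx hx0 h =>
    hx0 (hzero x (D.functional_zero htop (φ x) (hφ x hx) h))
  set c := φ v' m / φ v m
  have hcv : v' = c • v := by
    have hfix : D.FixU (S.rep i) (v' - c • v) := fun u hu => by
      rw [map_sub, map_smul, hv.wt.1 u hu, hv'.wt.1 u hu]
    by_contra hne'
    apply hne _ hfix (sub_ne_zero.2 hne')
    show m ⬝ᵥ (v' - c • v) = 0
    rw [dotProduct_sub, dotProduct_smul, smul_eq_mul]
    show φ v' m - c * φ v m = 0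
    rw [div_mul_cancel₀ _ (hne v hv.wt.1 hv.ne), sub_self]
  refine ⟨MonoidHom.ext fun t => Units.ext ?_, Set.ext fun j => ?_⟩
  · have h1 := hv'.wt.2 t
    rw [hcv, map_smul, hv.wt.2 t, smul_smul, smul_smul] at h1
    have hc : c ≠ 0 := fun h => hv'.ne (by rw [hcv, h, zero_smul])
    have h2 := smul_left_injective k hv.ne h1
    rw [mul_comm] at h2
    exact mul_right_cancel₀ hc h2
  · have h1 := hv'.eig j
    rw [hcv, map_smul, hv.eig j] at h1
    have hcne : c • v ≠ 0 := by rw [← hcv]; exact hv'.ne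
    split_ifs at h1 with h2 h3 h3
    · exact iff_of_true h2 h3
    · exact absurd (by simpa using h1) hcne
    · exact absurd (by simpa using h1) hcne
    · exact iff_of_false h2 h3

/-- Different factors have different weights. -/
theorem wvec_inj {i j : Fin S.m} {χ : ↥D.T →* kˣ} {A : Set (Fin l)}
    {v : Fin (S.d i) → k} {v' : Fin (S.d j) → k} (hv : D.IsWVec (S.rep i) χ A v)
    (hv' : D.IsWVec (S.rep j) χ A v') : i = j := by
  by_contra hij
  let ρ : G →* Module.End k ((Fin (S.d i) → k) × (Fin (S.d j) → k)) :=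
    { toFun := fun g => (S.rep i g).prodMap (S.rep j g)
      map_one' := by simp [map_one]
      map_mul' := fun a b => by ext <;> simp }
  have hop : ∀ (x : G) (a : Fin (S.d i) → k) (b : Fin (S.d j) → k),
      D.op ρ x (a, b) = (D.op (S.rep i) x a, D.op (S.rep j) x b) := by
    intro x a b
    simp only [op, LinearMap.sum_apply]
    rw [Prod.ext_iff, Prod.fst_sum, Prod.snd_sum]
    exact ⟨rfl, rfl⟩
  have hw : D.IsWVec ρ χ A (v, v') := by
    refine ⟨fun e => hv.ne (congrArg Prod.fst e), ⟨fun u hu => ?_, fun t => ?_⟩, hv.triv,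
      fun s => ?_⟩
    · show (S.rep i u v, S.rep j u v') = _; rw [hv.wt.1 u hu, hv'.wt.1 u hu]
    · show (S.rep i (t : G) v, S.rep j (t : G) v') = _; rw [hv.wt.2 t, hv'.wt.2 t]; rfl
    · rw [hop, hv.eig, hv'.eig]; split_ifs <;> simp [Prod.ext_iff]
  have hmem : ρ D.n0 (v, v') ∈
      Submodule.span k (Set.range fun u : ↥D.U => ρ ((u : G) * D.n0) (v, v')) :=
    Submodule.subset_span ⟨1, by simp⟩
  have hn : ∀ {i : Fin S.m} {v : Fin (S.d i) → k}, v ≠ 0 → S.rep i D.n0 v ≠ 0 := by
    intro i v hv e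
    apply hv
    have := congrArg (S.rep i D.n0⁻¹) e
    rwa [← ρ_mul, inv_mul_cancel, ρ_one, map_zero] at this
  have htop := S.pair_mem hij (fun g w hw' => D.span_stable hf hq hw g w hw')
    (hn hv.ne) (hn hv'.ne) hmem
  haveI : NeZero (S.d i) := S.ne i
  haveI : NeZero (S.d j) := S.ne j
  obtain ⟨ψ, B, y, hy⟩ := D.exists_wvec (ρ := S.drep i) hf hq
  obtain ⟨ψ', B', y', hy'⟩ := D.exists_wvec (ρ := S.drep j) hf hq
  let φa : ((Fin (S.d i) → k) × (Fin (S.d j) → k)) →ₗ[k] k :=
    { toFun := fun z => y ⬝ᵥ z.1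
      map_add' := fun a b => dotProduct_add y a.1 b.1
      map_smul' := fun c a => dotProduct_smul c y a.1 }
  let φb : ((Fin (S.d i) → k) × (Fin (S.d j) → k)) →ₗ[k] k :=
    { toFun := fun z => y' ⬝ᵥ z.2
      map_add' := fun a b => dotProduct_add y' a.2 b.2
      map_smul' := fun c a => dotProduct_smul c y' a.2 }
  have ha : ∀ u ∈ D.U, ∀ x, φa (ρ u x) = φa x := by
    intro u hu x
    show y ⬝ᵥ S.rep i u x.1 = y ⬝ᵥ x.1
    have := S.dual_pair i u⁻¹ x.1 y
    rw [inv_inv] at this
    rw [← this, hy.wt.1 _ (inv_mem hu)]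
  have hb : ∀ u ∈ D.U, ∀ x, φb (ρ u x) = φb x := by
    intro u hu x
    show y' ⬝ᵥ S.rep j u x.2 = y' ⬝ᵥ x.2
    have := S.dual_pair j u⁻¹ x.2 y'
    rw [inv_inv] at this
    rw [← this, hy'.wt.1 _ (inv_mem hu)]
  set z := ρ D.n0 (v, v')
  have h0 := D.functional_zero htop (φb z • φa - φa z • φb)
    (fun u hu x => by simp only [LinearMap.sub_apply, LinearMap.smul_apply, ha u hu x, hb u hu x])
    (by simp only [LinearMap.sub_apply, LinearMap.smul_apply, smul_eq_mul]; ring)
  have haz : φa z ≠ 0 := fun h => hy.ne (dotProduct_eq_zero y fun x => by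
    have := LinearMap.congr_fun (D.functional_zero htop φa ha h) (x, 0)
    exact this)
  apply hy'.ne
  refine dotProduct_eq_zero y' fun x => ?_
  have := LinearMap.congr_fun h0 (0, x)
  simp only [LinearMap.sub_apply, LinearMap.smul_apply, smul_eq_mul, LinearMap.zero_apply,
    sub_eq_zero] at this
  have h1 : φa (0, x) = 0 := dotProduct_zero y
  rw [h1, mul_zero] at this
  exact (mul_eq_zero.1 this.symm).resolve_left haz

/-- The regular representation. -/
noncomputable def reg (k : Type*) [Field k] (G : Type*) [Group G] :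
    G →* Module.End k (MonoidAlgebra k G) :=
  ((Algebra.lmul k (MonoidAlgebra k G)) : MonoidAlgebra k G →* Module.End k (MonoidAlgebra k G)).comp
    (MonoidAlgebra.of k G)

omit hf hq in
theorem reg_apply (g : G) (a : MonoidAlgebra k G) :
    reg k G g a = MonoidAlgebra.of k G g * a := rfl

/-- The eigenvector of a character in the regular representation. -/
noncomputable def evec (χ : ↥D.T →* kˣ) : MonoidAlgebra k G :=
  letI := Fintype.ofFinite ↥D.T
  letI := Fintype.ofFinite ↥D.U
  ∑ t : ↥D.T, ∑ u : ↥D.U, ((χ t⁻¹ : kˣ) : k) • MonoidAlgebra.of k G ((t : G) * (u : G))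

omit hf hq in
theorem evec_wt (χ : ↥D.T →* kˣ) : D.Wt (reg k G) χ (D.evec χ) := by
  letI := Fintype.ofFinite ↥D.T
  letI := Fintype.ofFinite ↥D.U
  constructor
  · intro u hu
    rw [evec, map_sum]
    refine Finset.sum_congr rfl fun t _ => ?_
    rw [map_sum]
    have hu' : (t : G)⁻¹ * u * t ∈ D.U := by simpa using D.T_norm _ (inv_mem t.2) u hu
    refine Equiv.sum_comp (Equiv.mulLeft (⟨_, hu'⟩ : ↥D.U))
      (fun w : ↥D.U => ((χ t⁻¹ : kˣ) : k) • MonoidAlgebra.of k G ((t : G) * (w : G))) |>.symm.trans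
        ?_ |>.symm
    refine Finset.sum_congr rfl fun w _ => ?_
    rw [map_smul, reg_apply, ← map_mul]
    congr 2
    simp [mul_assoc]
  · intro s
    rw [evec, map_sum, Finset.smul_sum]
    refine (Equiv.sum_comp (Equiv.mulLeft s) fun t : ↥D.T => ((χ s : kˣ) : k) • ∑ u : ↥D.U,
      ((χ t⁻¹ : kˣ) : k) • MonoidAlgebra.of k G ((t : G) * (u : G))).symm.trans ?_ |>.symm
    refine Finset.sum_congr rfl fun t _ => ?_
    rw [map_sum, Finset.smul_sum]
    refine Finset.sum_congr rfl fun u _ => ?_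
    rw [map_smul, reg_apply, ← map_mul, smul_smul]
    congr 2
    · rw [← Units.val_mul, ← map_mul]
      congr 2
      show s * (s * t)⁻¹ = t⁻¹
      rw [_root_.mul_inv_rev]
      refine Subtype.ext ?_
      simp only [Subgroup.coe_mul, InvMemClass.coe_inv]
      rw [D.hTcomm _ (inv_mem t.2) _ (inv_mem s.2), ← mul_assoc]
      simp
    · simp [mul_assoc]

/-- Each weight occurs in the regular representation. -/
theorem exists_reg (χ : ↥D.T →* kˣ) (A : Set (Fin l)) (hA : ∀ i ∈ A, D.Triv χ i) :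
    ∃ v, D.IsWVec (reg k G) χ A v := by
  let K : Set (Fin l) := {i | D.Triv χ i ∧ i ∉ A}
  let W := Subgroup.closure (D.n '' K)
  have hWN : W ≤ D.N := (Subgroup.closure_le _).2 (by rintro _ ⟨i, -, rfl⟩; exact D.n_mem i)
  letI := Fintype.ofFinite ↥W
  have hmN : ∀ m : ↥W, (m : G) * D.n0 ∈ D.N := fun m => mul_mem (hWN m.2) D.n0_mem
  let P : ∀ x : G, x ∈ D.N → MonoidAlgebra k G := fun x hx =>
    D.op (reg k G) x (D.evec (D.moved k χ x hx))
  have Pcongr : ∀ {x y : G} (hx : x ∈ D.N) (hy : y ∈ D.N), x = y → P x hx = P y hy := by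
    intro x y hx hy e; subst e; rfl
  have hPwt : ∀ x hx, D.Wt (reg k G) χ (P x hx) := fun x hx => D.op_wt hx (D.evec_wt _)
  let v := ∑ m : ↥W, P ((m : G) * D.n0) (hmN m)
  -- the operator on one term
  have hdec : ∀ i x (hx : x ∈ D.N), ¬ D.Inc i x →
      D.op (reg k G) (D.n i) (P x hx) = D.cval χ i • P x hx := by
    intro i x hx hni
    have h : D.Inc i ((D.n i)⁻¹ * x) := (D.inc_or hx i).resolve_left hni
    have hm' : (D.n i)⁻¹ * x ∈ D.N := mul_mem (inv_mem (D.n_mem i)) hx
    set χ' := D.moved k χ (D.n i) (D.n_mem i)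
    have hψ : D.moved k χ' _ hm' = D.moved k χ x hx := by
      rw [D.moved_moved]; simp only [mul_inv_cancel_left]
    have hwt : D.Wt (reg k G) χ' (D.op (reg k G) ((D.n i)⁻¹ * x) (D.evec (D.moved k χ x hx))) :=
      D.op_wt hm' (by rw [hψ]; exact D.evec_wt _)
    have e : P x hx = D.op (reg k G) (D.n i)
        (D.op (reg k G) ((D.n i)⁻¹ * x) (D.evec (D.moved k χ x hx))) := by
      rw [D.op_succ hm' h (D.evec_wt _).1]
      simp only [P, mul_inv_cancel_left]
    rw [e, D.op_sq hf hq i hwt]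
    congr 1
    by_cases ht : D.Triv χ i
    · rw [show χ' = χ from D.moved_fix ht]
    · rw [D.cval_of_not ht, D.cval_of_not fun h => ht (D.triv_of_moved h)]
  have heig : ∀ i, D.op (reg k G) (D.n i) v = if i ∈ A then -v else 0 := by
    intro i
    by_cases hi : i ∈ K
    · rw [if_neg hi.2]
      have hn : D.n i ∈ W := Subgroup.subset_closure ⟨i, hi, rfl⟩
      have hfix : D.moved k χ (D.n i) (D.n_mem i) = χ := D.moved_fix hi.1
      -- pairs of terms cancel
      let e : ↥W ≃ ↥W := Equiv.mulLeft ⟨D.n i, hn⟩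
      have hstep : ∀ m : ↥W, D.Inc i ((m : G) * D.n0) →
          D.op (reg k G) (D.n i) (P _ (hmN m)) = P _ (hmN (e m)) := by
        intro m h
        rw [D.op_succ (hmN m) h (D.evec_wt _).1]
        show _ = D.op (reg k G) (D.n i * (m : G) * D.n0) _
        rw [← mul_assoc]
        congr 2
        refine MonoidHom.ext fun t => ?_
        have h2 := DFunLike.congr_fun hfix
          ⟨_, D.N_norm _ (hmN m) t t.2⟩
        show D.moved k χ _ (hmN m) t = D.moved k χ _ (hmN (e m)) t
        refine h2.symm.trans ?_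
        show χ _ = χ _
        congr 1
        exact Subtype.ext (by simp [e, mul_assoc])
      have hincdec : ∀ m : ↥W, D.Inc i ((m : G) * D.n0) ↔ ¬ D.Inc i ((e m : G) * D.n0) := by
        intro m
        have hx : (e m : G) * D.n0 = D.n i * ((m : G) * D.n0) := by simp [e, mul_assoc]
        rw [hx]
        constructor
        · intro h
          refine D.not_inc hf hq fun x hx => ?_
          have h2 : (D.n i * D.n i)⁻¹ * x * (D.n i * D.n i) ∈ D.X i := D.X_conj_inv hx (D.n_sq i)
          convert (h _ h2).2 using 1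
          group
        · intro h
          have := (D.inc_or (mul_mem (D.n_mem i) (hmN m)) i).resolve_left h
          rwa [inv_mul_cancel_left] at this
      rw [map_sum, ← Finset.sum_filter_add_sum_filter_not Finset.univ
        (fun m : ↥W => D.Inc i ((m : G) * D.n0))]
      rw [Finset.sum_congr rfl fun m hm => hstep m (Finset.mem_filter.1 hm).2,
        Finset.sum_congr rfl fun m hm => hdec i _ (hmN m) (Finset.mem_filter.1 hm).2]
      simp only [D.cval_of_triv hi.1, neg_one_smul, Finset.sum_neg_distrib]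
      rw [add_neg_eq_zero]
      exact Finset.sum_equiv e (fun m => by simp [hincdec m]) fun m _ => rfl
    · have hterm : ∀ m : ↥W, D.op (reg k G) (D.n i) (P _ (hmN m)) = D.cval χ i • P _ (hmN m) := by
        intro m
        refine hdec i _ (hmN m) (D.not_inc hf hq fun x hx => ?_)
        have h1 : (m : G)⁻¹ * x * m ∈ D.U := D.rad K i hi m m.2 x hx
        have h2 := D.T_norm _ (inv_mem D.n0_sq) _ h1
        have h3 := D.n0_flip _ h2
        convert h3 using 1; group
      rw [map_sum, Finset.sum_congr rfl fun m _ => hterm m, ← Finset.smul_sum]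
      by_cases ht : D.Triv χ i
      · have hiA : i ∈ A := by
          by_contra hiA; exact hi ⟨ht, hiA⟩
        rw [if_pos hiA, D.cval_of_triv ht, neg_one_smul]
      · rw [if_neg fun h => ht (hA i h), D.cval_of_not ht, zero_smul]
  refine ⟨v, fun h0 => ?_, ⟨fun u hu => ?_, fun t => ?_⟩, hA, heig⟩
  swap
  · rw [map_sum]; exact Finset.sum_congr rfl fun m _ => (hPwt _ (hmN m)).1 u hu
  swap
  · rw [map_sum, Finset.smul_sum]; exact Finset.sum_congr rfl fun m _ => (hPwt _ (hmN m)).2 t
  -- the coefficient at the longest element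
  letI := Fintype.ofFinite ↥D.T
  letI := Fintype.ofFinite ↥D.U
  have hcoef : ∀ m : ↥W, (P _ (hmN m)).coeff D.n0 = if (m : G) ∈ D.T then 1 else 0 := by
    intro m
    set x := (m : G) * D.n0
    letI := Fintype.ofFinite (↥D.U ⧸ D.K x)
    set ψ := D.moved k χ x (hmN m)
    have hP : (P x (hmN m)).coeff D.n0 = ∑ c : ↥D.U ⧸ D.K x, ∑ t : ↥D.T, ∑ u : ↥D.U,
        if (c.out : G) * x * ((t : G) * (u : G)) = D.n0 then ((ψ t⁻¹ : kˣ) : k) else 0 := by
      simp only [P, op, LinearMap.sum_apply, evec, map_sum, map_smul, reg_apply, ← map_mul,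
        MonoidAlgebra.coeff_sum, Finset.sum_apply', MonoidAlgebra.coeff_smul,
        Finsupp.smul_apply, smul_eq_mul]
      simp only [Finset.mul_sum]
      rw [Finset.sum_congr rfl fun t _ => Finset.sum_comm, Finset.sum_comm]
      refine Finset.sum_congr rfl fun c _ => Finset.sum_congr rfl fun t _ =>
        Finset.sum_congr rfl fun u _ => ?_
      rw [MonoidAlgebra.of_apply, MonoidAlgebra.coeff_single, Finsupp.single_apply]
      split_ifs <;> simp [ψ]
    rw [hP]
    -- solutions
    have hsol : ∀ (r : ↥D.U) (t : ↥D.T) (u : ↥D.U),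
        (r : G) * x * ((t : G) * (u : G)) = D.n0 →
          (m : G) ∈ D.T ∧ r = 1 ∧ u = 1 ∧ (t : G) = x⁻¹ * D.n0 := by
      intro r t u e
      have ht' : D.n0 * (t : G)⁻¹ * D.n0⁻¹ ∈ D.T := D.N_norm _ D.n0_mem _ (inv_mem t.2)
      have hb : D.n0 * (u : G)⁻¹ * D.n0⁻¹ ∈ D.Um := D.n0_flip _ (inv_mem u.2)
      have e2 : (r : G)⁻¹ * (D.n0 * (u : G)⁻¹ * D.n0⁻¹) * (D.n0 * (t : G)⁻¹ * D.n0⁻¹) = m := by
        have : (r : G)⁻¹ * D.n0 = x * ((t : G) * (u : G)) := by rw [← e]; group
        calc _ = (r : G)⁻¹ * D.n0 * (u : G)⁻¹ * (t : G)⁻¹ * D.n0⁻¹ := by group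
          _ = _ := by rw [this]; simp only [x]; group
      have hmT : (m : G) ∈ D.T := e2 ▸ D.bruhat _ (inv_mem r.2) _ hb _ ht' (e2 ▸ hWN m.2)
      obtain ⟨h1, h2⟩ := D.tri _ (inv_mem r.2) _ hb (D.n0 * (t : G)⁻¹ * D.n0⁻¹ * (m : G)⁻¹)
        (mul_mem ht' (inv_mem hmT)) (by rw [← mul_assoc, e2, mul_inv_cancel])
      have hu : (u : G) = 1 := by
        have : (u : G)⁻¹ = D.n0⁻¹ * (D.n0 * (u : G)⁻¹ * D.n0⁻¹) * D.n0 := by group
        rw [h2] at this
        simpa using this
      refine ⟨hmT, Subtype.ext (inv_eq_one.1 h1), Subtype.ext hu, ?_⟩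
      rw [inv_eq_one.1 h1, hu, mul_one, one_mul] at e
      rw [← e]; group
    by_cases hm : (m : G) ∈ D.T
    · rw [if_pos hm]
      have hK : ∀ u : ↥D.U, u ∈ D.K x → u = 1 := by
        intro u hu
        have h' := D.mem_K.1 hu
        have h1 : (m : G)⁻¹ * (u : G) * m ∈ D.U := by simpa using D.T_norm _ (inv_mem hm) _ u.2
        have h2 : x⁻¹ * (u : G) * x ∈ D.Um := by
          have := D.n0_flip _ (D.T_norm _ (inv_mem D.n0_sq) _ h1)
          convert this using 1; simp only [x]; group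
        have h3 : x⁻¹ * (u : G) * x ∈ D.U ⊓ D.Um := ⟨h', h2⟩
        rw [D.disjoint, Subgroup.mem_bot] at h3
        refine Subtype.ext ?_
        have : (u : G) = x * (x⁻¹ * (u : G) * x) * x⁻¹ := by group
        rw [this, h3]; simp
      have htm : x⁻¹ * D.n0 ∈ D.T := by
        have := D.N_norm _ (inv_mem D.n0_mem) _ (inv_mem hm)
        convert this using 1; simp only [x]; group
      set c₀ : ↥D.U ⧸ D.K x := QuotientGroup.mk 1
      have hc₀ : c₀.out = 1 := by
        have h := hK _ (QuotientGroup.eq.1 c₀.out_eq)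
        simpa using h
      rw [Finset.sum_eq_single c₀, Finset.sum_eq_single ⟨_, htm⟩, Finset.sum_eq_single 1]
      · rw [if_pos (by rw [hc₀]; simp)]
        have hχm : χ ⟨(m : G), hm⟩ = 1 := by
          have hmem := D.span_le K (show (m : G) ∈ W ⊓ D.T from ⟨m.2, hm⟩)
          have hle : (⨆ j ∈ K, D.H j) ≤ (χ.ker).map D.T.subtype := by
            refine iSup₂_le fun j hj y hy => ⟨⟨y, D.H_le j hy⟩, ?_, rfl⟩
            exact hj.1 _ hy
          obtain ⟨y, hy, hye⟩ := hle hmem
          rw [show (⟨(m : G), hm⟩ : ↥D.T) = y from Subtype.ext hye.symm]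
          exact hy
        show ((χ _ : kˣ) : k) = 1
        rw [show (⟨x * (((⟨_, htm⟩ : ↥D.T)⁻¹ : ↥D.T) : G) * x⁻¹,
          D.N_norm x (hmN m) _ (⟨_, htm⟩ : ↥D.T)⁻¹.2⟩ : ↥D.T) = ⟨(m : G), hm⟩ from
            Subtype.ext (by simp [x, mul_assoc]), hχm, Units.val_one]
      · intro u _ hne
        exact if_neg fun e => hne (hsol _ _ _ e).2.2.1
      · simp
      · intro t _ hne
        exact Finset.sum_eq_zero fun u _ => if_neg fun e => hne (Subtype.ext (hsol _ _ _ e).2.2.2)
      · simp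
      · intro c _ hne
        refine Finset.sum_eq_zero fun t _ => Finset.sum_eq_zero fun u _ => if_neg fun e => hne ?_
        rw [← c.out_eq, (hsol _ _ _ e).2.1]
      · simp
    · rw [if_neg hm]
      exact Finset.sum_eq_zero fun c _ => Finset.sum_eq_zero fun t _ => Finset.sum_eq_zero fun u _ =>
        if_neg fun e => hm (hsol _ _ _ e).1
  have := congrArg (fun a => a.coeff D.n0) h0
  simp only [v, MonoidAlgebra.coeff_sum, Finsupp.finsetSum_apply, hcoef, Finset.sum_boole,
    MonoidAlgebra.coeff_zero, Finsupp.coe_zero, Pi.zero_apply] at this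
  rw [CharP.cast_eq_zero_iff k p] at this
  have hcard : (Finset.univ.filter fun m : ↥W => (m : G) ∈ D.T).card =
      Nat.card ↥(D.T.subgroupOf W) := by
    rw [← Fintype.card_subtype, ← Nat.card_eq_fintype_card]; rfl
  rw [hcard] at this
  exact D.not_dvd_T hf hq (this.trans (Subgroup.card_dvd_of_injective
    (D.T.subgroupOf W |>.subtype |> fun g => (⟨⟨fun x => (⟨((x : ↥W) : G), x.2⟩ : ↥D.T), rfl⟩,
      fun _ _ => rfl⟩ : ↥(D.T.subgroupOf W) →* ↥D.T))
    (fun a b e => Subtype.ext (Subtype.ext (congrArg (fun z : ↥D.T => (z : G)) e)))))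

/-- Each weight occurs in a factor. -/
theorem exists_factor (χ : ↥D.T →* kˣ) (A : Set (Fin l)) (hA : ∀ i ∈ A, D.Triv χ i) :
    ∃ i, ∃ y, D.IsWVec (S.rep i) χ A y := by
  obtain ⟨v, hv⟩ := D.exists_reg hf hq χ A hA
  have hker : ∀ a b, S.π a = 0 → S.π (b * a) = 0 := fun a b h => by rw [map_mul, h, mul_zero]
  let L : Ideal (MonoidAlgebra k G) :=
    { carrier := {a | ∃ b, S.π b = 0 ∧ a * v = b * v}
      add_mem' := by
        rintro a c ⟨b, hb, e⟩ ⟨d, hd, e'⟩
        exact ⟨b + d, by rw [map_add, hb, hd, add_zero], by rw [add_mul, add_mul, e, e']⟩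
      zero_mem' := ⟨0, map_zero _, rfl⟩
      smul_mem' := by
        rintro c a ⟨b, hb, e⟩
        exact ⟨c * b, hker b c hb, by rw [smul_eq_mul, mul_assoc, e, mul_assoc]⟩ }
  have hcomp : ∃ i, ∀ a ∈ L, S.π a i ≠ 1 := by
    by_contra hcon
    push Not at hcon
    choose a haL ha1 using hcon
    have hlift : ∀ i, ∃ b, S.π b = Pi.single i 1 := fun i => S.surj _
    choose b hb using hlift
    have hmem : (∑ i, b i * a i) ∈ L := L.sum_mem fun i _ => L.mul_mem_left _ (haL i)
    have hone : S.π (∑ i, b i * a i) = 1 := by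
      rw [map_sum]
      funext j
      rw [Finset.sum_apply, Finset.sum_eq_single j]
      · rw [map_mul, hb, Pi.mul_apply, Pi.single_eq_same, one_mul, ha1, Pi.one_apply]
      · intro i _ hne
        rw [map_mul, hb, Pi.mul_apply, Pi.single_eq_of_ne (Ne.symm hne), zero_mul]
      · simp
    obtain ⟨c, hc, e⟩ := hmem
    set j := c - ((∑ i, b i * a i) - 1)
    have hj : S.π j = 0 := by rw [map_sub, map_sub, hc, hone, map_one, sub_self, sub_zero]
    have hjv : (1 - j) * v = 0 := by
      simp only [j, sub_mul, one_mul, e]; abel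
    exact hv.ne ((IsUnit.mul_right_eq_zero (IsNilpotent.isUnit_one_sub (S.nil j hj))).1 hjv)
  obtain ⟨i, hi⟩ := hcomp
  let L' : Submodule (MonoidAlgebra k G) (MonoidAlgebra k G) := L
  have hy : ∃ y : Fin (S.d i) → k, y ≠ 0 ∧ ∀ a ∈ L, S.π a i *ᵥ y = 0 := by
    -- the rows span a proper subspace
    let R : Submodule k (Fin (S.d i) → k) :=
      Submodule.span k {x | ∃ a ∈ L, ∃ r, x = S.π a i r}
    by_cases hR : R = ⊤
    · exfalso
      have key : ∀ x ∈ R, ∀ r : Fin (S.d i), ∃ a ∈ L, S.π a i r = x ∧ ∀ r' ≠ r, S.π a i r' = 0 := by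
        intro x hx r
        refine Submodule.span_induction ?_ ?_ ?_ ?_ hx
        · rintro _ ⟨a, ha, r₀, rfl⟩
          obtain ⟨b, hb⟩ := S.exists_π_eq i (Matrix.single r r₀ 1)
          refine ⟨b * a, L.mul_mem_left _ ha, ?_, fun r' hr' => ?_⟩
          · funext s; rw [map_mul, Pi.mul_apply, hb]; simp
          · funext s; rw [map_mul, Pi.mul_apply, hb]; simp [hr']
        · exact ⟨0, L.zero_mem, by simp; rfl, fun _ _ => by simp; rfl⟩
        · rintro x y _ _ ⟨a, ha, e1, e2⟩ ⟨b, hb, e3, e4⟩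
          refine ⟨a + b, L.add_mem ha hb, ?_, fun r' hr' => ?_⟩
          · rw [map_add]; funext s; simp [← e1, ← e3]
          · rw [map_add]; funext s; simp [e2 r' hr', e4 r' hr']
        · rintro c x _ ⟨a, ha, e1, e2⟩
          refine ⟨algebraMap k (MonoidAlgebra k G) c * a, L.mul_mem_left _ ha, ?_, fun r' hr' => ?_⟩
          · rw [← Algebra.smul_def, map_smul]; funext s; simp [← e1]
          · rw [← Algebra.smul_def, map_smul]; funext s; simp [e2 r' hr']
      have h1 : ∀ r, ∃ a ∈ L, S.π a i r = Pi.single r 1 ∧ ∀ r' ≠ r, S.π a i r' = 0 := fun r =>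
        key _ (by rw [hR]; trivial) r
      choose a haL ha1 ha2 using h1
      refine hi (∑ r, a r) (L.sum_mem fun r _ => haL r) ?_
      rw [map_sum, Finset.sum_apply]
      ext r s
      rw [Matrix.sum_apply, Finset.sum_eq_single r, ha1, Matrix.one_apply, Pi.single_apply]
      · simp [eq_comm]
      · intro r' _ hne; rw [ha2 r' r (Ne.symm hne)]; rfl
      · simp
    · obtain ⟨φ, hφ, hle⟩ := Submodule.exists_le_ker_of_lt_top R (lt_top_iff_ne_top.2 hR)
      refine ⟨fun s => φ (Pi.single s 1), fun e => hφ ?_, fun a ha => funext fun r => ?_⟩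
      · refine LinearMap.pi_ext' fun s => LinearMap.ext_ring ?_
        simpa using congrFun e s
      · have h0 : φ (S.π a i r) = 0 := hle (Submodule.subset_span ⟨a, ha, r, rfl⟩)
        rw [← Finset.univ_sum_single (S.π a i r), map_sum] at h0
        rw [Pi.zero_apply, ← h0, Matrix.mulVec, dotProduct]
        refine Finset.sum_congr rfl fun s _ => ?_
        rw [← smul_eq_mul, ← map_smul]
        congr 1
        rw [← Pi.single_smul', smul_eq_mul, mul_one]
  obtain ⟨y, hy0, hy⟩ := hy
  have hrel : ∀ a c : MonoidAlgebra k G, a * v = c * v → S.π a i *ᵥ y = S.π c i *ᵥ y := by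
    intro a c e
    have : a - c ∈ L := ⟨0, map_zero _, by rw [sub_mul, e, sub_self, zero_mul]⟩
    have := hy _ this
    rwa [map_sub, Pi.sub_apply, Matrix.sub_mulVec, sub_eq_zero] at this
  refine ⟨i, y, hy0, ⟨fun u hu => ?_, fun t => ?_⟩, hA, fun j => ?_⟩
  · rw [S.rep_apply, hrel _ 1 (by rw [← reg_apply, hv.wt.1 u hu, one_mul]), map_one, Pi.one_apply,
      Matrix.one_mulVec]
  · rw [S.rep_apply, hrel _ (algebraMap k _ ((χ t : kˣ) : k))
      (by rw [← reg_apply, hv.wt.2 t, Algebra.smul_def]), AlgHom.commutes,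
      Pi.algebraMap_apply, Matrix.algebraMap_eq_diagonal]
    ext s; simp [Matrix.mulVec_diagonal]
  · letI := Fintype.ofFinite (↥D.U ⧸ D.K (D.n j))
    set o : MonoidAlgebra k G :=
      ∑ c : ↥D.U ⧸ D.K (D.n j), MonoidAlgebra.of k G ((c.out : G) * D.n j)
    have ho : o * v = D.op (reg k G) (D.n j) v := by
      rw [op, LinearMap.sum_apply, Finset.sum_mul]; rfl
    have ho' : S.π o i *ᵥ y = D.op (S.rep i) (D.n j) y := by
      rw [op, LinearMap.sum_apply, map_sum, Finset.sum_apply, Matrix.sum_mulVec]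
      exact Finset.sum_congr rfl fun c _ => (S.rep_apply i _ y).symm
    rw [← ho']
    rw [hv.eig j] at ho
    split_ifs at ho ⊢ with h
    · rw [hrel o (-1) (by rw [ho, neg_one_mul]), map_neg, map_one, Pi.neg_apply, Pi.one_apply,
        Matrix.neg_mulVec, Matrix.one_mulVec]
    · rw [hrel o 0 (by rw [ho, zero_mul]), map_zero, Pi.zero_apply, Matrix.zero_mulVec]

include D in
/-- The number of factors. -/
theorem card_factors : S.m = q ^ l := by
  letI : ∀ i, CommGroup ↥(D.H i) := fun i =>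
    { (inferInstance : Group ↥(D.H i)) with
      mul_comm := fun a b => Subtype.ext (D.hTcomm _ (D.H_le i a.2) _ (D.H_le i b.2)) }
  letI : CommGroup ↥D.T :=
    { (inferInstance : Group ↥D.T) with
      mul_comm := fun a b => Subtype.ext (D.hTcomm _ a.2 _ b.2) }
  have h1 : ∀ i : Fin S.m, ∃ χ A y, D.IsWVec (S.rep i) χ A y := fun i => by
    haveI : NeZero (S.d i) := S.ne i
    exact D.exists_wvec hf hq
  choose χ A y hy using h1
  let w : Fin S.m → ∀ j : Fin l, Option (↥(D.H j) →* kˣ) := fun i j =>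
    if j ∈ A i then none else some ((χ i).comp (Subgroup.inclusion (D.H_le j)))
  have hext : ∀ χ χ' : ↥D.T →* kˣ, (∀ j, χ.comp (Subgroup.inclusion (D.H_le j)) =
      χ'.comp (Subgroup.inclusion (D.H_le j))) → χ = χ' := by
    intro χ χ' h
    have : χ.comp D.tor.toMonoidHom = χ'.comp D.tor.toMonoidHom := by
      apply MonoidHom.pi_ext
      intro j x
      have e : D.tor (Pi.mulSingle j x) = Subgroup.inclusion (D.H_le j) x :=
        Subtype.ext (D.tor_single j x)
      show χ (D.tor _) = χ' (D.tor _)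
      rw [e]; exact DFunLike.congr_fun (h j) x
    refine MonoidHom.ext fun t => ?_
    have := DFunLike.congr_fun this (D.tor.symm t)
    simpa using this
  have hw : Function.Bijective w := by
    constructor
    · intro i i' e
      have hA : A i = A i' := Set.ext fun j => by
        have := congrFun e j
        simp only [w] at this
        split_ifs at this with h1 h2 h2
        · exact iff_of_true h1 h2
        · exact iff_of_false h1 h2
      have hχ : χ i = χ i' := hext _ _ fun j => by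
        by_cases hj : j ∈ A i
        · refine MonoidHom.ext fun x => ?_
          show χ i _ = χ i' _
          rw [(hy i).triv j hj _ x.2, (hy i').triv j (hA ▸ hj) _ x.2]
        · have := congrFun e j
          simp only [w, if_neg hj, if_neg (hA ▸ hj : j ∉ A i')] at this
          exact Option.some.inj this
      have h' := hy i'
      rw [← hA, ← hχ] at h'
      exact D.wvec_inj hf hq S (hy i) h'
    · intro o
      let χo : ↥D.T →* kˣ :=
        ({ toFun := fun x => ∏ j, ((o j).getD 1) (x j)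
           map_one' := by simp
           map_mul' := fun a b => by simp [Finset.prod_mul_distrib] } :
          (∀ j, ↥(D.H j)) →* kˣ).comp D.tor.symm.toMonoidHom
      have hres : ∀ j (x : ↥(D.H j)), χo (Subgroup.inclusion (D.H_le j) x) = (o j).getD 1 x := by
        intro j x
        have e : D.tor.symm (Subgroup.inclusion (D.H_le j) x) = Pi.mulSingle j x := by
          rw [MulEquiv.symm_apply_eq]; exact (Subtype.ext (D.tor_single j x)).symm
        show ∏ j', ((o j').getD 1) (D.tor.symm (Subgroup.inclusion (D.H_le j) x) j') = _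
        simp only [MulEquiv.coe_toMonoidHom, e]
        rw [Finset.prod_eq_single j]
        · rw [Pi.mulSingle_eq_same]
        · intro j' _ hne; rw [Pi.mulSingle_eq_of_ne hne, map_one]
        · simp
      obtain ⟨i, z, hz⟩ := D.exists_factor hf hq S χo {j | o j = none} fun j hj x hx => by
        have := hres j ⟨x, hx⟩
        rw [show o j = none from hj] at this
        exact this
      obtain ⟨e1, e2⟩ := D.wvec_unique hf hq S (hy i) hz
      refine ⟨i, funext fun j => ?_⟩
      simp only [w, e2, e1, Set.mem_setOf_eq]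
      by_cases hj : o j = none
      · rw [if_pos hj, hj]
      · rw [if_neg hj]
        obtain ⟨φ, hφ⟩ := Option.ne_none_iff_exists'.1 hj
        rw [hφ]
        congr 1
        refine MonoidHom.ext fun x => ?_
        rw [MonoidHom.comp_apply, hres, hφ]; rfl
  have hc := Nat.card_eq_of_bijective w hw
  rw [Nat.card_fin, Nat.card_pi] at hc
  rw [hc, Finset.prod_congr rfl fun j _ => ?_, Finset.prod_const, Finset.card_univ, Fintype.card_fin]
  haveI : NeZero ((Monoid.exponent ↥(D.H j) : ℕ) : k) := by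
    refine ⟨fun h => ?_⟩
    rw [CharP.cast_eq_zero_iff k p] at h
    exact D.not_dvd_T hf hq ((h.trans Group.exponent_dvd_nat_card).trans
      (Subgroup.card_dvd_of_le (D.H_le j)))
  haveI : Finite (↥(D.H j) →* kˣ) := Nat.finite_of_card_ne_zero (by
    rw [CommGroup.card_monoidHom_of_hasEnoughRootsOfUnity]; exact Nat.card_pos.ne')
  haveI := Fintype.ofFinite (↥(D.H j) →* kˣ)
  rw [Nat.card_eq_fintype_card, Fintype.card_option, ← Nat.card_eq_fintype_card,
    CommGroup.card_monoidHom_of_hasEnoughRootsOfUnity, D.H_card j]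
  have := two_le_q (p := p) hf hq
  omega

end BNData

/-- The number of regular classes of a group with a split BN datum. -/
theorem BNData.card_regular_classes (D : BNData G p q l) [Fact p.Prime] {f : ℕ} (hf : 1 ≤ f)
    (hq : q = p ^ f) :
    Nat.card {c : ConjClasses G // ∃ g : G, ConjClasses.mk g = c ∧ (orderOf g).Coprime p} = q ^ l := by
  obtain ⟨S⟩ := exists_split (k := AlgebraicClosure (ZMod p)) (G := G)
  rw [S.card_regular p, D.card_factors hf hq S]

end Cfsg.Agent.Lib.Modular
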