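import Mathlib

/-!
Split BN data in characteristic `p` and its operators on fixed vectors.
-/

set_option autoImplicit false
set_option linter.unusedSectionVars false

namespace Cfsg.Agent.Lib.Modular

open scoped Classical

/-- A split BN datum of characteristic `p` with simply connected torus. -/
structure BNData (G : Type*) [Group G] (p q l : ℕ) where
  U : Subgroup G
  Um : Subgroup G
  T : Subgroup G
  N : Subgroup G
  X : Fin l → Subgroup G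
  H : Fin l → Subgroup G
  n : Fin l → G
  n0 : G
  hU : IsPGroup p U
  hTcomm : ∀ a ∈ T, ∀ b ∈ T, a * b = b * a
  gen : Subgroup.closure ((U : Set G) ∪ T ∪ Set.range n) = ⊤
  disjoint : U ⊓ Um = ⊥
  T_norm : ∀ t ∈ T, ∀ u ∈ U, t * u * t⁻¹ ∈ U
  T_X : ∀ i, ∀ t ∈ T, ∀ u ∈ X i, t * u * t⁻¹ ∈ X i
  N_norm : ∀ m ∈ N, ∀ t ∈ T, m * t * m⁻¹ ∈ T
  T_le : T ≤ N
  n_mem : ∀ i, n i ∈ N
  n0_mem : n0 ∈ N
  n_sq : ∀ i, n i * n i ∈ T
  n0_sq : n0 * n0 ∈ T
  n0_flip : ∀ u ∈ U, n0 * u * n0⁻¹ ∈ Um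
  n0_flip' : ∀ u ∈ Um, n0 * u * n0⁻¹ ∈ U
  n0_simple : ∀ i, ∃ j, ∃ t ∈ T, n0⁻¹ * n i * n0 = n j * t
  X_le : ∀ i, X i ≤ U
  decomp : ∀ i, ∀ u ∈ U, ∃ x ∈ X i, ∃ v ∈ U, n i * v * (n i)⁻¹ ∈ U ∧ u = x * v
  X_conj : ∀ i, ∀ x ∈ X i, ∀ v ∈ U, n i * v * (n i)⁻¹ ∈ U →
    n i * (x * v * x⁻¹) * (n i)⁻¹ ∈ U
  Xm : ∀ i, ∀ x ∈ X i, n i * x * (n i)⁻¹ ∈ Um
  dich : ∀ m ∈ N, ∀ i, (∀ x ∈ X i, m⁻¹ * x * m ∈ U ∧ m⁻¹ * (n i * x * (n i)⁻¹) * m ∈ Um) ∨
    (∀ x ∈ X i, m⁻¹ * x * m ∈ Um ∧ m⁻¹ * (n i * x * (n i)⁻¹) * m ∈ U)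
  split : ∀ m ∈ N, ∀ u ∈ U, ∃ a c, u = a * c ∧ a ∈ U ∧ c ∈ U ∧ m * a * m⁻¹ ∈ U ∧ m * c * m⁻¹ ∈ Um
  bruhat : ∀ a ∈ U, ∀ b ∈ Um, ∀ t ∈ T, a * b * t ∈ N → a * b * t ∈ T
  card_X : ∀ i, Nat.card (X i) = q
  H_le : ∀ i, H i ≤ T
  comm_H : ∀ i, ∀ t ∈ T, n i * t * (n i)⁻¹ * t⁻¹ ∈ H i
  tri : ∀ a ∈ U, ∀ b ∈ Um, ∀ t ∈ T, a * b * t = 1 → a = 1 ∧ b = 1
  rad : ∀ K : Set (Fin l), ∀ i ∉ K, ∀ m ∈ Subgroup.closure (n '' K), ∀ x ∈ X i, m⁻¹ * x * m ∈ U
  rk1 : ∀ i, ∃ τ : {x : X i // x ≠ 1} → H i, Function.Bijective τ ∧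
    ∀ x : {x : X i // x ≠ 1}, ∃ a ∈ X i, ∃ b ∈ X i,
      n i * ((x : X i) : G) * n i = a * n i * (τ x : G) * b
  tor : (∀ i, H i) ≃* T
  tor_single : ∀ i (h : H i), (tor (Pi.mulSingle i h) : G) = (h : G)
  span_le : ∀ K : Set (Fin l), Subgroup.closure (n '' K) ⊓ T ≤ ⨆ j ∈ K, H j

variable {G : Type*} [Group G] [Finite G] {p q l : ℕ} (D : BNData G p q l)
variable (k : Type*) [Field k]

namespace BNData

/-- The part of `U` kept positive by the inverse of an element. -/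
def K (m : G) : Subgroup ↥D.U :=
  ((D.U).map (MulAut.conj m).toMonoidHom).subgroupOf D.U

theorem mem_K {m : G} {u : ↥D.U} : u ∈ D.K m ↔ m⁻¹ * (u : G) * m ∈ D.U := by
  simp only [K, Subgroup.mem_subgroupOf, Subgroup.mem_map, MulEquiv.coe_toMonoidHom,
    MulAut.conj_apply]
  constructor
  · rintro ⟨y, hy, e⟩
    rw [← e]
    simpa [mul_assoc] using hy
  · intro h
    exact ⟨_, h, by simp [mul_assoc]⟩

/-- A character of the torus moved by an element of `N`. -/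
noncomputable def moved (χ : ↥D.T →* kˣ) (m : G) (hm : m ∈ D.N) : ↥D.T →* kˣ where
  toFun t := χ ⟨m * t * m⁻¹, D.N_norm m hm t t.2⟩
  map_one' := by rw [← map_one χ]; congr 1; exact Subtype.ext (by simp)
  map_mul' a b := by rw [← map_mul χ]; congr 1; exact Subtype.ext (by simp [mul_assoc])

variable {k}
variable {V : Type*} [AddCommGroup V] [Module k V] (ρ : G →* Module.End k V)

theorem ρ_mul (a b : G) (v : V) : ρ (a * b) v = ρ a (ρ b v) := by rw [map_mul]; rfl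

theorem ρ_one (v : V) : ρ 1 v = v := by rw [map_one]; rfl

/-- The orbit sum of a vector moved by an element. -/
noncomputable def op (m : G) : V →ₗ[k] V :=
  letI := Fintype.ofFinite (↥D.U ⧸ D.K m)
  ∑ c : ↥D.U ⧸ D.K m, ρ ((c.out : G) * m)

/-- Fixed by `U`. -/
def FixU (v : V) : Prop := ∀ u ∈ D.U, ρ u v = v

/-- An eigenvector of `T`. -/
def Wt (χ : ↥D.T →* kˣ) (v : V) : Prop :=
  D.FixU ρ v ∧ ∀ t : ↥D.T, ρ t v = ((χ t : kˣ) : k) • v

variable {ρ}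

theorem out_eq {m : G} (hv : ∀ u : ↥D.U, u ∈ D.K m → ∀ w, D.FixU ρ w → ρ ((u : G) * m) w = ρ m w)
    {a b : ↥D.U} (h : (QuotientGroup.mk a : ↥D.U ⧸ D.K m) = QuotientGroup.mk b) {w : V}
    (hw : D.FixU ρ w) : ρ ((a : G) * m) w = ρ ((b : G) * m) w := by
  rw [QuotientGroup.eq] at h
  rw [show (b : G) * m = (a : G) * (((a⁻¹ * b : ↥D.U) : G) * m) by simp [mul_assoc],
    ρ_mul ρ (a : G) m, ρ_mul ρ (a : G) _, hv _ h w hw]

theorem K_fix {m : G} (u : ↥D.U) (hu : u ∈ D.K m) (w : V) (hw : D.FixU ρ w) :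
    ρ ((u : G) * m) w = ρ m w := by
  rw [show (u : G) * m = m * (m⁻¹ * (u : G) * m) by group, ρ_mul, hw _ (D.mem_K.1 hu)]

theorem out_mk {m : G} (a : ↥D.U) {w : V} (hw : D.FixU ρ w) :
    ρ (((QuotientGroup.mk a : ↥D.U ⧸ D.K m).out : G) * m) w = ρ ((a : G) * m) w :=
  D.out_eq (fun u hu => D.K_fix u hu) (Quotient.out_eq _) hw

theorem op_fix {m : G} {w : V} (hw : D.FixU ρ w) : D.FixU ρ (D.op ρ m w) := by
  intro u hu
  letI := Fintype.ofFinite (↥D.U ⧸ D.K m)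
  rw [op, LinearMap.sum_apply, map_sum]
  refine Finset.sum_bij (fun c _ => (⟨u, hu⟩ : ↥D.U) • c) (fun _ _ => Finset.mem_univ _)
    (fun a _ b _ e => MulAction.injective _ e)
    (fun c _ => ⟨(⟨u, hu⟩ : ↥D.U)⁻¹ • c, Finset.mem_univ _, smul_inv_smul _ _⟩) fun c _ => ?_
  rw [← ρ_mul, ← mul_assoc]
  conv_rhs => rw [← c.out_eq, MulAction.Quotient.smul_mk, D.out_mk _ hw]
  rfl

theorem op_wt {m : G} (hm : m ∈ D.N) {χ : ↥D.T →* kˣ} {w : V} (hw : D.Wt ρ (D.moved k χ m hm) w) :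
    D.Wt ρ χ (D.op ρ m w) := by
  refine ⟨D.op_fix hw.1, fun t => ?_⟩
  letI := Fintype.ofFinite (↥D.U ⧸ D.K m)
  have hc : ∀ u : ↥D.U, (t : G) * (u : G) * (t : G)⁻¹ ∈ D.U := fun u => D.T_norm _ t.2 _ u.2
  let e : ↥D.U → ↥D.U := fun u => ⟨_, hc u⟩
  have ht' : m⁻¹ * (t : G) * m ∈ D.T := by
    simpa using D.N_norm m⁻¹ (inv_mem hm) t t.2
  let f : ↥D.U ⧸ D.K m → ↥D.U ⧸ D.K m := Quotient.map' e fun a b h => by
    rw [QuotientGroup.leftRel_apply] at h ⊢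
    rw [D.mem_K] at h ⊢
    have e1 : m⁻¹ * (((e a)⁻¹ * e b : ↥D.U) : G) * m =
        (m⁻¹ * (t : G) * m) * (m⁻¹ * ((a⁻¹ * b : ↥D.U) : G) * m) * (m⁻¹ * (t : G) * m)⁻¹ := by
      simp only [e, Subgroup.coe_mul, InvMemClass.coe_inv]; group
    rw [e1]
    exact D.T_norm _ ht' _ h
  have hf : ∀ a : ↥D.U, f (QuotientGroup.mk a) = QuotientGroup.mk (e a) := fun a => rfl
  have hfi : Function.Injective f := by
    intro x y h
    induction x using QuotientGroup.induction_on with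
    | _ a =>
    induction y using QuotientGroup.induction_on with
    | _ b =>
    rw [hf, hf, QuotientGroup.eq, D.mem_K] at h
    rw [QuotientGroup.eq, D.mem_K]
    have := D.T_norm _ (inv_mem ht') _ h
    convert this using 1
    simp only [e, Subgroup.coe_mul, InvMemClass.coe_inv]; group
  rw [op, LinearMap.sum_apply, map_sum, Finset.smul_sum]
  refine Finset.sum_bij (fun c _ => f c) (fun _ _ => Finset.mem_univ _) (fun a _ b _ h => hfi h)
    (fun c _ => ?_) fun c _ => ?_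
  · obtain ⟨a, ha⟩ := (Finite.injective_iff_surjective.1 hfi) c
    exact ⟨a, Finset.mem_univ _, ha⟩
  · conv_rhs => rw [← c.out_eq]
    show _ = _ • ρ (((f (QuotientGroup.mk c.out)).out : G) * m) w
    rw [hf, D.out_mk _ hw.1, ← ρ_mul,
      show (t : G) * ((c.out : G) * m) = (e c.out : G) * m * (m⁻¹ * (t : G) * m) by
        simp only [e]; group,
      ρ_mul, hw.2 ⟨_, ht'⟩, map_smul]
    have e2 : D.moved k χ m hm ⟨_, ht'⟩ = χ t := by
      show χ _ = χ t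
      congr 1
      exact Subtype.ext (by simp [mul_assoc])
    rw [e2]

/-- The element goes up under the reflection. -/
def Inc (i : Fin l) (m : G) : Prop :=
  ∀ x ∈ D.X i, m⁻¹ * x * m ∈ D.U ∧ m⁻¹ * (D.n i * x * (D.n i)⁻¹) * m ∈ D.Um

theorem X_conj_inv {i : Fin l} {x : G} (hx : x ∈ D.X i) {t : G} (ht : t ∈ D.T) :
    t⁻¹ * x * t ∈ D.X i := by
  simpa using D.T_X i t⁻¹ (inv_mem ht) x hx

theorem inc_or {m : G} (hm : m ∈ D.N) (i : Fin l) : D.Inc i m ∨ D.Inc i ((D.n i)⁻¹ * m) := by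
  rcases D.dich m hm i with h | h
  · exact Or.inl h
  · refine Or.inr fun x hx => ⟨?_, ?_⟩
    · have e : ((D.n i)⁻¹ * m)⁻¹ * x * ((D.n i)⁻¹ * m) =
          m⁻¹ * (D.n i * x * (D.n i)⁻¹) * m := by group
      rw [e]; exact (h x hx).2
    · have hy : D.n i * D.n i * x * (D.n i * D.n i)⁻¹ ∈ D.X i := D.T_X i _ (D.n_sq i) x hx
      have e : ((D.n i)⁻¹ * m)⁻¹ * (D.n i * x * (D.n i)⁻¹) * ((D.n i)⁻¹ * m) =
          m⁻¹ * (D.n i * D.n i * x * (D.n i * D.n i)⁻¹) * m := by group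
      rw [e]; exact (h _ hy).1

theorem K_succ {i : Fin l} {m : G} (hm : m ∈ D.N) (hi : D.Inc i m) {x : G} (hx : x ∈ D.U)
    (h : (D.n i * m)⁻¹ * x * (D.n i * m) ∈ D.U) :
    (D.n i)⁻¹ * x * D.n i ∈ D.U := by
  obtain ⟨a, ha, v, hv, hnv, rfl⟩ := D.decomp i x hx
  -- `v` stays positive under the inverse reflection
  have hv' : (D.n i)⁻¹ * v * D.n i ∈ D.U := by
    have := D.T_norm _ (inv_mem (D.n_sq i)) _ hnv
    convert this using 1; group
  set y := (D.n i)⁻¹ * v * D.n i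
  have ha2 : (D.n i)⁻¹ * a * D.n i = D.n i * ((D.n i * D.n i)⁻¹ * a * (D.n i * D.n i)) * (D.n i)⁻¹ := by
    group
  obtain ⟨hp1, hq1⟩ := hi _ (D.X_conj_inv ha (D.n_sq i))
  have hxm : (D.n i)⁻¹ * a * D.n i ∈ D.Um := by rw [ha2]; exact D.Xm i _ (D.X_conj_inv ha (D.n_sq i))
  set z := (D.n i)⁻¹ * a * D.n i
  have hz : m⁻¹ * z * m ∈ D.Um := by rw [ha2]; exact hq1
  -- move `z` to the right of `y`
  have hy2 : z * y * z⁻¹ ∈ D.U := by
    have := D.X_conj i a ha v hv hnv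
    have := D.T_norm _ (inv_mem (D.n_sq i)) _ this
    convert this using 1
    simp only [z, y]; group
  obtain ⟨b, c, hbc, hb, hc, hmb, hmc⟩ := D.split m⁻¹ (inv_mem hm) _ hy2
  simp only [inv_inv] at hmb hmc
  have e : (D.n i * m)⁻¹ * (a * v) * (D.n i * m) = (m⁻¹ * b * m) * ((m⁻¹ * c * m) * (m⁻¹ * z * m)) := by
    have : z * y = b * c * z := by rw [← hbc]; group
    calc (D.n i * m)⁻¹ * (a * v) * (D.n i * m) = m⁻¹ * (z * y) * m := by simp only [z, y]; group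
      _ = _ := by rw [this]; group
  rw [e] at h
  have h1 : (m⁻¹ * c * m) * (m⁻¹ * z * m) ∈ D.U ⊓ D.Um :=
    ⟨by
      have := mul_mem (inv_mem hmb) h
      rwa [inv_mul_cancel_left] at this, mul_mem hmc hz⟩
  rw [D.disjoint, Subgroup.mem_bot] at h1
  have h2 : c * z = 1 := by
    have : m * ((m⁻¹ * c * m) * (m⁻¹ * z * m)) * m⁻¹ = c * z := by group
    rw [← this, h1]; group
  have hz1 : z ∈ D.U ⊓ D.Um := ⟨show z ∈ D.U by
    rw [eq_inv_of_mul_eq_one_right h2]; exact inv_mem hc, hxm⟩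
  rw [D.disjoint, Subgroup.mem_bot] at hz1
  have e3 : (D.n i)⁻¹ * (a * v) * D.n i = z * y := by simp only [z, y]; group
  rw [e3, hz1, one_mul]; exact hv'

/-- Composition of an increasing step. -/
theorem op_succ {i : Fin l} {m : G} (hm : m ∈ D.N) (hi : D.Inc i m) {w : V} (hw : D.FixU ρ w) :
    D.op ρ (D.n i) (D.op ρ m w) = D.op ρ (D.n i * m) w := by
  letI := Fintype.ofFinite (↥D.U ⧸ D.K (D.n i))
  letI := Fintype.ofFinite (↥D.U ⧸ D.K m)
  letI := Fintype.ofFinite (↥D.U ⧸ D.K (D.n i * m))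
  -- representatives kept positive by the reflection
  have hrep : ∀ c : ↥D.U ⧸ D.K m, ∃ v : ↥D.U,
      D.n i * (v : G) * (D.n i)⁻¹ ∈ D.U ∧ (QuotientGroup.mk v : ↥D.U ⧸ D.K m) = c := by
    intro c
    obtain ⟨x, hx, v, hv, hnv, e⟩ := D.decomp i _ c.out.2
    refine ⟨⟨x * v * x⁻¹, mul_mem (mul_mem (D.X_le i hx) hv) (inv_mem (D.X_le i hx))⟩,
      D.X_conj i x hx v hv hnv, ?_⟩
    conv_rhs => rw [← c.out_eq]
    refine QuotientGroup.eq.2 (D.mem_K.2 ?_)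
    simp only [Subgroup.coe_mul, InvMemClass.coe_inv, e]
    have : m⁻¹ * ((x * v * x⁻¹)⁻¹ * (x * v)) * m = m⁻¹ * x * m := by group
    rw [this]; exact (hi x hx).1
  choose r hr1 hr2 using hrep
  let Φ : (↥D.U ⧸ D.K (D.n i)) × (↥D.U ⧸ D.K m) → ↥D.U ⧸ D.K (D.n i * m) := fun P =>
    QuotientGroup.mk (P.1.out * ⟨_, hr1 P.2⟩)
  have hKm : ∀ u : ↥D.U, u ∈ D.K (D.n i * m) →
      u ∈ D.K (D.n i) ∧ ∀ hv : (D.n i)⁻¹ * (u : G) * D.n i ∈ D.U, (⟨_, hv⟩ : ↥D.U) ∈ D.K m := by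
    intro u hu
    rw [D.mem_K] at hu
    refine ⟨D.mem_K.2 (D.K_succ hm hi u.2 hu), fun hv => D.mem_K.2 ?_⟩
    convert hu using 1; group
  have hinv : ∀ v : ↥D.U, D.n i * (v : G) * (D.n i)⁻¹ ∈ D.U →
      ∀ h : D.n i * (v : G) * (D.n i)⁻¹ ∈ D.U, (⟨_, h⟩ : ↥D.U) ∈ D.K (D.n i) := fun v _ h =>
    D.mem_K.2 (by convert v.2 using 1; group)
  have hΦ : Function.Bijective Φ := by
    constructor
    · rintro ⟨c1, c2⟩ ⟨d1, d2⟩ h
      have h' := hKm _ (QuotientGroup.eq.1 h)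
      have e1 : c1 = d1 := by
        rw [← c1.out_eq, ← d1.out_eq]
        refine QuotientGroup.eq.2 ?_
        have := mul_mem (mul_mem (hinv (r c2) (hr1 c2) (hr1 c2)) h'.1)
          (inv_mem (hinv (r d2) (hr1 d2) (hr1 d2)))
        convert this using 1
        ext; simp [mul_assoc]
      subst e1
      have e2 : c2 = d2 := by
        rw [← hr2 c2, ← hr2 d2]
        refine QuotientGroup.eq.2 ?_
        have e3 : (D.n i)⁻¹ * (((c1.out * ⟨_, hr1 c2⟩)⁻¹ * (c1.out * ⟨_, hr1 d2⟩) : ↥D.U) : G) *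
            D.n i = ((r c2)⁻¹ * r d2 : ↥D.U) := by
          simp only [Subgroup.coe_mul, InvMemClass.coe_inv]; group
        have := h'.2 (by rw [e3]; exact ((r c2)⁻¹ * r d2).2)
        convert this using 1
        exact Subtype.ext e3.symm
      subst e2; rfl
    · intro c
      obtain ⟨x, hx, v, hv, hnv, e⟩ := D.decomp i _ c.out.2
      set c1 : ↥D.U ⧸ D.K (D.n i) := QuotientGroup.mk (⟨x, D.X_le i hx⟩ : ↥D.U) with hc1
      -- `x` and its chosen representative differ by something fixed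
      have h1 : (c1.out)⁻¹ * ⟨x, D.X_le i hx⟩ ∈ D.K (D.n i) := QuotientGroup.eq.1 c1.out_eq
      set k1 := (c1.out)⁻¹ * (⟨x, D.X_le i hx⟩ : ↥D.U)
      rw [D.mem_K] at h1
      have hv2 : (D.n i)⁻¹ * v * D.n i ∈ D.U := by
        have := D.T_norm _ (inv_mem (D.n_sq i)) _ hnv
        convert this using 1; group
      set w' : ↥D.U := ⟨_, h1⟩ * ⟨_, hv2⟩
      set c2 : ↥D.U ⧸ D.K m := QuotientGroup.mk w'
      refine ⟨(c1, c2), ?_⟩
      show QuotientGroup.mk _ = c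
      conv_rhs => rw [← c.out_eq]
      refine QuotientGroup.eq.2 (D.mem_K.2 ?_)
      have h3 : (r c2)⁻¹ * w' ∈ D.K m := QuotientGroup.eq.1 (hr2 c2)
      rw [D.mem_K] at h3
      convert h3 using 1
      simp only [w', k1, Subgroup.coe_mul, InvMemClass.coe_inv, e]; group
  calc D.op ρ (D.n i) (D.op ρ m w)
      = ∑ P : (↥D.U ⧸ D.K (D.n i)) × (↥D.U ⧸ D.K m),
          ρ ((P.1.out : G) * D.n i) (ρ ((r P.2 : G) * m) w) := by
        rw [op, op, LinearMap.sum_apply, Fintype.sum_prod_type]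
        refine Finset.sum_congr rfl fun c1 _ => ?_
        rw [LinearMap.sum_apply, map_sum]
        refine Finset.sum_congr rfl fun c2 _ => ?_
        congr 1
        conv_lhs => rw [← hr2 c2, D.out_mk _ hw]
    _ = ∑ P, ρ (((Φ P).out : G) * (D.n i * m)) w := by
        refine Finset.sum_congr rfl fun P _ => ?_
        rw [← ρ_mul, D.out_mk _ hw]
        congr 2
        simp only [Subgroup.coe_mul]
        group
    _ = D.op ρ (D.n i * m) w := by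
        rw [op, LinearMap.sum_apply]
        exact hΦ.sum_comp fun c => ρ ((c.out : G) * (D.n i * m)) w

/-- The representatives of the cosets for a reflection. -/
theorem X_reps (i : Fin l) :
    Function.Bijective fun x : ↥(D.X i) =>
      (QuotientGroup.mk ⟨(x : G), D.X_le i x.2⟩ : ↥D.U ⧸ D.K (D.n i)) := by
  constructor
  · intro x y h
    have h' := D.mem_K.1 (QuotientGroup.eq.1 h)
    simp only [Subgroup.coe_mul, InvMemClass.coe_inv] at h'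
    set z := (x : G)⁻¹ * y
    have hz : z ∈ D.X i := mul_mem (inv_mem x.2) y.2
    have h1 : (D.n i)⁻¹ * z * D.n i ∈ D.U ⊓ D.Um := by
      refine ⟨h', ?_⟩
      show (D.n i)⁻¹ * z * D.n i ∈ D.Um
      have := D.Xm i _ (D.X_conj_inv hz (D.n_sq i))
      convert this using 1; group
    rw [D.disjoint, Subgroup.mem_bot] at h1
    have : z = 1 := by
      have e : D.n i * ((D.n i)⁻¹ * z * D.n i) * (D.n i)⁻¹ = z := by group
      rw [← e, h1]; group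
    exact Subtype.ext (inv_mul_eq_one.1 this)
  · intro c
    obtain ⟨x, hx, v, hv, hnv, e⟩ := D.decomp i _ c.out.2
    refine ⟨⟨x, hx⟩, ?_⟩
    conv_rhs => rw [← c.out_eq]
    refine QuotientGroup.eq.2 (D.mem_K.2 ?_)
    have := D.T_norm _ (inv_mem (D.n_sq i)) _ hnv
    convert this using 1
    simp only [Subgroup.coe_mul, InvMemClass.coe_inv, e]; group

/-- The eigenvalue of the square of a reflection operator. -/
noncomputable def cval (χ : ↥D.T →* kˣ) (i : Fin l) : k :=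
  if ∀ h : ↥D.T, (h : G) ∈ D.H i → χ h = 1 then -1 else 0

theorem op_n_eq (i : Fin l) {w : V} (hw : D.FixU ρ w) [Fintype ↥(D.X i)] :
    D.op ρ (D.n i) w = ∑ x : ↥(D.X i), ρ ((x : G) * D.n i) w := by
  letI := Fintype.ofFinite (↥D.U ⧸ D.K (D.n i))
  rw [op, LinearMap.sum_apply]
  rw [← (D.X_reps i).sum_comp fun c => ρ ((c.out : G) * D.n i) w]
  exact Finset.sum_congr rfl fun x _ => D.out_mk _ hw

theorem op_sq [hp : Fact p.Prime] [CharP k p] {f : ℕ} (hf : 1 ≤ f) (hq : q = p ^ f) (i : Fin l)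
    {χ : ↥D.T →* kˣ} {w : V} (hw : D.Wt ρ χ w) :
    D.op ρ (D.n i) (D.op ρ (D.n i) w) = D.cval χ i • D.op ρ (D.n i) w := by
  letI := Fintype.ofFinite ↥(D.X i)
  letI := Fintype.ofFinite ↥(D.H i)
  rw [D.op_n_eq i (D.op_fix hw.1), D.op_n_eq i hw.1]
  obtain ⟨τ, hτ, hrk⟩ := D.rk1 i
  set Θ := fun y : ↥(D.X i) => ρ (D.n i * (y : G) * D.n i) w
  have hswap : ∀ x : ↥(D.X i), ρ ((x : G) * D.n i) (∑ y : ↥(D.X i), ρ ((y : G) * D.n i) w) =
      ∑ y : ↥(D.X i), ρ (x : G) (Θ y) := by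
    intro x
    rw [map_sum]
    refine Finset.sum_congr rfl fun y _ => ?_
    simp only [Θ]
    rw [← ρ_mul, ← ρ_mul]
    congr 2; group
  rw [Finset.sum_congr rfl fun x _ => hswap x, Finset.sum_comm]
  have hq0 : (q : k) = 0 := by
    rw [hq, Nat.cast_pow, CharP.cast_eq_zero, zero_pow (by omega)]
  have hone : ∑ x : ↥(D.X i), ρ (x : G) (Θ 1) = 0 := by
    have : ∀ x : ↥(D.X i), ρ (x : G) (Θ 1) = ((χ ⟨_, D.n_sq i⟩ : kˣ) : k) • w := by
      intro x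
      simp only [Θ, Subgroup.coe_one, mul_one]
      have h2 : ρ (D.n i * D.n i) w = _ := hw.2 ⟨_, D.n_sq i⟩
      rw [h2, map_smul, hw.1 _ (D.X_le i x.2)]
    rw [Finset.sum_congr rfl fun x _ => this x, Finset.sum_const, Finset.card_univ,
      ← Nat.card_eq_fintype_card, D.card_X, ← Nat.cast_smul_eq_nsmul k, hq0, zero_smul]
  have hy : ∀ y : {y : ↥(D.X i) // y ≠ 1}, ∑ x : ↥(D.X i), ρ (x : G) (Θ y) =
      ((χ ⟨_, D.H_le i (τ y).2⟩ : kˣ) : k) • ∑ x : ↥(D.X i), ρ ((x : G) * D.n i) w := by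
    intro y
    obtain ⟨a, ha, b, hb, e⟩ := hrk y
    rw [Finset.smul_sum]
    refine Finset.sum_bij (fun x _ => x * ⟨a, ha⟩) (fun _ _ => Finset.mem_univ _)
      (fun x _ x' _ h => mul_right_cancel h)
      (fun c _ => ⟨c * (⟨a, ha⟩ : ↥(D.X i))⁻¹, Finset.mem_univ _, by group⟩) fun x _ => ?_
    simp only [Θ]
    rw [e, ← ρ_mul, show (x : G) * (a * D.n i * (τ y : G) * b) =
      (x : G) * a * D.n i * (((⟨_, D.H_le i (τ y).2⟩ : ↥D.T) : G) * b) by simp [mul_assoc],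
      ρ_mul, ρ_mul ρ ((⟨_, D.H_le i (τ y).2⟩ : ↥D.T) : G), hw.1 b (D.X_le i hb), hw.2, map_smul]
    rfl
  have hsplit : ∀ F : ↥(D.X i) → V, ∑ y, F y = F 1 + ∑ y : {y : ↥(D.X i) // y ≠ 1}, F y := by
    intro F
    rw [← Finset.add_sum_erase _ _ (Finset.mem_univ (1 : ↥(D.X i)))]
    congr 1
    exact (Finset.sum_subtype _ (by simp) F)
  rw [hsplit, hone, zero_add, Finset.sum_congr rfl fun y _ => hy y, ← Finset.sum_smul]
  congr 1
  -- the sum of the character over the subgroup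
  rw [hτ.sum_comp fun h : ↥(D.H i) => ((χ ⟨_, D.H_le i h.2⟩ : kˣ) : k)]
  set φ : ↥(D.H i) →* kˣ := χ.comp (Subgroup.inclusion (D.H_le i))
  show ∑ h, ((φ h : kˣ) : k) = _
  have hcardH : Fintype.card ↥(D.H i) = q - 1 := by
    rw [← Fintype.card_of_bijective hτ, Fintype.card_subtype_compl, Fintype.card_subtype_eq,
      ← Nat.card_eq_fintype_card, D.card_X]
  unfold cval
  split_ifs with h
  · have h1 : ∀ a, φ a = 1 := fun a => h _ a.2
    simp only [h1, Units.val_one, Finset.sum_const, Finset.card_univ, hcardH, nsmul_eq_mul, mul_one]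
    rw [Nat.cast_sub (by rw [hq]; exact Nat.one_le_pow _ _ hp.out.pos), hq0, Nat.cast_one, zero_sub]
  · push Not at h
    obtain ⟨t, ht, hne⟩ := h
    have hne' : (Units.coeHom k).comp φ ≠ 1 := fun e => hne (Units.ext
      (DFunLike.congr_fun e (⟨t, ht⟩ : ↥(D.H i))))
    exact sum_hom_units_eq_zero _ hne'

end BNData

end Cfsg.Agent.Lib.Modular
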